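import Groth.Agent.Lib.GRing.Criterion
import Groth.Agent.Lib.Cohen.CompleteNagata
import Groth.Agent.Lib.Cohen.PSDerivation
import Groth.Agent.Lib.Adic.Complete

/-!
# Complete Noetherian local rings are G-rings
-/

set_option autoImplicit false
set_option linter.style.haveILetI false

universe u

open IsLocalRing

namespace Groth.Agent.Lib.GRing.Complete

/-- Complete Noetherian local rings are G-rings. -/
theorem isGRing (R : Type u) [CommRing R] [IsLocalRing R] [IsNoetherianRing R]
    [IsAdicComplete (maximalIdeal R) R] : CAlg.IsGRing R := by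
  refine Criterion.isGRing_of_finite_injective R fun q _ => ?_
  let R' := R ⧸ q
  haveI : IsDomain R' := Ideal.Quotient.isDomain q
  haveI : IsLocalRing R' := IsLocalRing.of_surjective' _ Ideal.Quotient.mk_surjective
  haveI : IsAdicComplete (maximalIdeal R') R' := by
    have e : (maximalIdeal R).map (Ideal.Quotient.mk q) = maximalIdeal R' := by
      haveI : IsLocalHom (Ideal.Quotient.mk q) := IsLocalHom.of_surjective _ Ideal.Quotient.mk_surjective
      rw [← IsLocalRing.maximalIdeal_comap (Ideal.Quotient.mk q),
        Ideal.map_comap_of_surjective _ Ideal.Quotient.mk_surjective]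
    rw [← e]
    exact Groth.Agent.Lib.Adic.Complete.isAdicComplete_quotient q
  obtain ⟨Λ, _, n, g, hΛ, hginj, hgfin, -⟩ :=
    Groth.Agent.Lib.Cohen.CompleteNagata.exists_finite_injective R'
  let S := MvPowerSeries (Fin n) Λ
  rcases hΛ with hΛ | hΛ
  · letI := hΛ.toField
    haveI := (Groth.Agent.Lib.Cohen.PSRegular.mvPowerSeries Λ n).1
    haveI : IsDomain S := Groth.Agent.Lib.Regular.Quotient.isDomain S
    haveI : IsRegularRing S := isRegularRing_iff.2 fun p _ =>
      Groth.Agent.Lib.Regular.Serre.isRegularLocalRing_localization p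
    refine ⟨S, inferInstance, g, inferInstance, inferInstance, fun p hp hchar => ?_, hginj, hgfin⟩
    haveI := Fact.mk hp
    haveI : CharP Λ p := (RingHom.charP_iff (MvPowerSeries.C (σ := Fin n) (R := Λ))
      MvPowerSeries.C_injective p).2 hchar
    intro A _ _ _ _ _ M _ _ _ f hf
    exact Groth.Agent.Lib.Cohen.PSDerivation.exists_derivation (p := p) (k := Λ) (d := n) A M f hf
  · obtain ⟨_, _, -, p, hp, hmax⟩ := hΛ
    haveI := (Groth.Agent.Lib.Cohen.PSRegular.mvPowerSeries Λ n).1
    haveI : IsDomain S := Groth.Agent.Lib.Regular.Quotient.isDomain S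
    haveI : IsRegularRing S := isRegularRing_iff.2 fun p _ =>
      Groth.Agent.Lib.Regular.Serre.isRegularLocalRing_localization p
    refine ⟨S, inferInstance, g, inferInstance, inferInstance, fun l hl hchar => absurd ?_ hl.ne_zero,
      hginj, hgfin⟩
    haveI : CharZero Λ := by
      refine charZero_of_inj_zero fun m hm => ?_
      by_contra h0
      obtain ⟨e, m', hm', rfl⟩ := Nat.exists_eq_pow_mul_and_not_dvd h0 p hp.ne_one
      have hirr : Irreducible (p : Λ) := (IsDiscreteValuationRing.irreducible_iff_uniformizer _).2 hmax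
      rw [Nat.cast_mul, Nat.cast_pow] at hm
      have hm0 : (m' : Λ) = 0 := (mul_eq_zero.1 hm).resolve_left (pow_ne_zero _ hirr.ne_zero)
      obtain ⟨a, b, hab⟩ := Int.isCoprime_iff_gcd_eq_one.2
        (show Int.gcd (p : ℤ) (m' : ℤ) = 1 from (Nat.Prime.coprime_iff_not_dvd hp).2 hm')
      refine hirr.not_isUnit (IsUnit.of_mul_eq_one (b := (a : Λ)) ?_)
      have := congrArg (Int.cast : ℤ → Λ) hab
      push_cast at this
      rw [hm0, mul_zero, add_zero] at this
      rw [mul_comm]
      exact this
    haveI : CharZero S := charZero_of_injective_ringHom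
      (f := (MvPowerSeries.C : Λ →+* MvPowerSeries (Fin n) Λ)) MvPowerSeries.C_injective
    exact CharP.eq S hchar (CharP.ofCharZero S)

end Groth.Agent.Lib.GRing.Complete
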