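import Groth.Agent.Lib.Excellent.CompletionFinite
import Mathlib.RingTheory.Derivation.Basic
import Mathlib.Algebra.TrivSqZeroExt.Basic
import Mathlib.RingTheory.Localization.Basic

/-!
# Derivations of localizations and completions
-/

set_option autoImplicit false
set_option linter.style.haveILetI false

universe u

namespace Groth.Agent.Lib.GRing.Extend

/-- A derivation extends to a localization. -/
theorem exists_localization {R T : Type u} [CommRing R] [CommRing T] [Algebra R T] (M : Submonoid R)
    [IsLocalization M T] (D : Derivation ℤ R R) :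
    ∃ D' : Derivation ℤ T T, ∀ a : R, D' (algebraMap R T a) = algebraMap R T (D a) := by
  let ψ : R →+* TrivSqZeroExt T T :=
    { toFun := fun a => TrivSqZeroExt.inl (algebraMap R T a) + TrivSqZeroExt.inr (algebraMap R T (D a))
      map_one' := by ext <;> simp
      map_zero' := by ext <;> simp
      map_add' := fun a b => by ext <;> simp
      map_mul' := fun a b => by
        ext
        · simp
        · simp [Derivation.leibniz]
          ring }
  have hu : ∀ s : M, IsUnit (ψ s) := fun s => by
    rw [TrivSqZeroExt.isUnit_iff_isUnit_fst]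
    simpa [ψ] using IsLocalization.map_units T s
  let χ : T →+* TrivSqZeroExt T T := IsLocalization.lift hu
  have hfst : ∀ t : T, (χ t).fst = t := by
    intro t
    have : (TrivSqZeroExt.fstHom T T T).toRingHom.comp χ = RingHom.id T := by
      refine IsLocalization.ringHom_ext M (RingHom.ext fun a => ?_)
      simp [χ, ψ, IsLocalization.lift_eq]
    exact RingHom.congr_fun this t
  refine ⟨Derivation.mk' (AddMonoidHom.toIntLinearMap
    { toFun := fun t => (χ t).snd
      map_zero' := by simp
      map_add' := fun a b => by simp }) (fun a b => ?_), fun a => ?_⟩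
  · change (χ (a * b)).snd = a • (χ b).snd + b • (χ a).snd
    rw [map_mul, TrivSqZeroExt.snd_mul, hfst, hfst]
    simp [mul_comm]
  · change (χ (algebraMap R T a)).snd = _
    simp [χ, ψ, IsLocalization.lift_eq]

theorem map_pow_succ {B : Type u} [CommRing B] (J : Ideal B) (D : Derivation ℤ B B) :
    ∀ (n : ℕ) {b : B}, b ∈ J ^ (n + 1) → D b ∈ J ^ n := by
  intro n
  induction n with
  | zero => exact fun _ => by simp
  | succ n ih =>
    intro b hb
    rw [pow_succ'] at hb
    refine Submodule.mul_induction_on hb (fun x hx y hy => ?_) fun x y hx hy => ?_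
    · rw [Derivation.leibniz]
      refine Ideal.add_mem _ ?_ ?_
      · rw [pow_succ']
        exact Ideal.mul_mem_mul hx (ih hy)
      · exact Ideal.mul_mem_right _ _ hy
    · rw [map_add]
      exact Ideal.add_mem _ hx hy

theorem eval_of_le {B : Type u} [CommRing B] (J : Ideal B) {m n : ℕ} (hle : m ≤ n)
    {x : AdicCompletion J B} {a : B}
    (ha : AdicCompletion.evalₐ J n x = Ideal.Quotient.mk _ a) :
    AdicCompletion.evalₐ J m x = Ideal.Quotient.mk _ a := by
  obtain ⟨y, rfl⟩ := AdicCompletion.mk_surjective J B x
  rw [AdicCompletion.evalₐ_mk, Ideal.Quotient.mk_eq_mk_iff_sub_mem] at ha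
  rw [AdicCompletion.evalₐ_mk, Ideal.Quotient.mk_eq_mk_iff_sub_mem]
  have h1 : y m - y n ∈ J ^ m := by
    have := y.property hle
    rw [SModEq.sub_mem] at this
    simpa using this
  simpa using Ideal.add_mem _ h1 (Ideal.pow_le_pow_right hle ha)

/-- A derivation extends to an adic completion. -/
theorem exists_completion {B : Type u} [CommRing B] (J : Ideal B) (D : Derivation ℤ B B) :
    ∃ D' : Derivation ℤ (AdicCompletion J B) (AdicCompletion J B),
      ∀ b : B, D' (algebraMap B _ b) = algebraMap B _ (D b) := by
  choose rep hrep using fun (x : AdicCompletion J B) (n : ℕ) =>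
    Ideal.Quotient.mk_surjective (AdicCompletion.evalₐ J n x)
  have hcong : ∀ (n : ℕ) {a b : B},
      Ideal.Quotient.mk (J ^ (n + 1)) a = Ideal.Quotient.mk (J ^ (n + 1)) b →
      Ideal.Quotient.mk (J ^ n) (D a) = Ideal.Quotient.mk (J ^ n) (D b) := by
    intro n a b h
    rw [Ideal.Quotient.mk_eq_mk_iff_sub_mem] at h ⊢
    rw [← map_sub]
    exact map_pow_succ J D n h
  let seq : AdicCompletion J B → AdicCompletion.AdicCauchySequence J B := fun x =>
    ⟨fun n => D (rep x (n + 1)), fun {m n} hmn => by
      rw [SModEq.sub_mem]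
      simp only [smul_eq_mul, Ideal.mul_top]
      rw [← map_sub]
      refine map_pow_succ J D m ?_
      rw [← Ideal.Quotient.mk_eq_mk_iff_sub_mem, hrep, ← eval_of_le J (Nat.succ_le_succ hmn) (hrep x (n + 1)).symm]⟩
  let F : AdicCompletion J B → AdicCompletion J B := fun x => AdicCompletion.mk J B (seq x)
  have key : ∀ (x : AdicCompletion J B) (n : ℕ) (a : B),
      AdicCompletion.evalₐ J (n + 1) x = Ideal.Quotient.mk _ a →
        AdicCompletion.evalₐ J n (F x) = Ideal.Quotient.mk _ (D a) := fun x n a ha => by
    rw [AdicCompletion.evalₐ_mk]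
    exact hcong n ((hrep x (n + 1)).trans ha)
  refine ⟨Derivation.mk' (AddMonoidHom.toIntLinearMap (AddMonoidHom.mk' F fun x y => ?_)) (fun x y => ?_),
    fun b => ?_⟩
  · refine AdicCompletion.ext_evalₐ fun n => ?_
    rw [map_add, key x n _ (hrep x (n + 1)).symm, key y n _ (hrep y (n + 1)).symm,
      key (x + y) n (rep x (n + 1) + rep y (n + 1)) (by rw [map_add, map_add, hrep, hrep]), map_add,
      map_add]
  · refine AdicCompletion.ext_evalₐ fun n => ?_
    change AdicCompletion.evalₐ J n (F (x * y)) = AdicCompletion.evalₐ J n (x * F y + y * F x)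
    have hx := (hrep x (n + 1)).symm
    have hy := (hrep y (n + 1)).symm
    rw [map_add, map_mul, map_mul, key x n _ hx, key y n _ hy, eval_of_le J (Nat.le_succ n) hx,
      eval_of_le J (Nat.le_succ n) hy,
      key (x * y) n (rep x (n + 1) * rep y (n + 1)) (by rw [map_mul, map_mul, hrep, hrep]),
      Derivation.leibniz, smul_eq_mul, smul_eq_mul, map_add, map_mul, map_mul]
  · refine AdicCompletion.ext_evalₐ fun n => ?_
    change AdicCompletion.evalₐ J n (F _) = _
    rw [AlgHom.commutes, Ideal.Quotient.algebraMap_eq,
      key _ n b (by rw [AlgHom.commutes, Ideal.Quotient.algebraMap_eq])]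

end Groth.Agent.Lib.GRing.Extend
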