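import Groth.Agent.Lib.GRing.CompleteFT
import Groth.Agent.Lib.Henselian.FormalFibres
import Groth.Agent.Lib.Excellent.GRingStability
import Groth.Agent.S9293
import Groth.Agent.S9294
import Groth.Agent.S9259

/-!
# Algebras of finite type over G-rings are G-rings
-/

set_option autoImplicit false
set_option linter.style.haveILetI false

universe u

open IsLocalRing
open scoped TensorProduct

namespace Groth.Agent.Lib.GRing.FiniteType

/-- Passing from a regular cover which is a G-ring to the base. -/
theorem isRegularHom_of_cover (A S D : Type u) [CommRing A] [IsLocalRing A] [CommRing S] [IsNoetherianRing S]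
    [CommRing D] [IsNoetherianRing D] [Algebra A S] [Algebra S D] [Algebra A D] [IsScalarTower A S D]
    (hreg : CAlg.IsRegularHom S D) (hD : CAlg.IsGRing D)
    (happ : ∀ t : D, ∃ s : S, t - algebraMap S D s ∈ (maximalIdeal A).map (algebraMap A D))
    (Q : Ideal D) [Q.IsPrime] (P : Ideal S) [P.IsPrime] (hQP : Q.comap (algebraMap S D) = P)
    (hP : P.comap (algebraMap A S) = maximalIdeal A) :
    CAlg.IsRegularHom (Localization.AtPrime P) (EGA4.Cpl (Localization.AtPrime P)) := by
  subst hQP
  let SP := Localization.AtPrime (Q.comap (algebraMap S D))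
  let DQ := Localization.AtPrime Q
  letI : Algebra SP DQ := (Localization.localRingHom (Q.comap (algebraMap S D)) Q (algebraMap S D) rfl).toAlgebra
  haveI : IsScalarTower S SP DQ := .of_algebraMap_eq fun a =>
    ((Localization.localRingHom_to_map _ Q (algebraMap S D) rfl a).trans
      (IsScalarTower.algebraMap_apply S D DQ a).symm).symm
  haveI : IsLocalHom (algebraMap SP DQ) := Localization.isLocalHom_localRingHom _ _ _ rfl
  have h1 : CAlg.IsRegularHom SP DQ := (Groth.Agent.S9259.result S D).1.1 hreg Q
  haveI := h1.1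
  haveI : IsNoetherianRing SP := IsLocalization.isNoetherianRing (Q.comap (algebraMap S D)).primeCompl _ inferInstance
  haveI : IsNoetherianRing DQ := IsLocalization.isNoetherianRing Q.primeCompl _ inferInstance
  have hle : ((maximalIdeal A).map (algebraMap A D)).map (algebraMap D DQ) ≤
      (maximalIdeal SP).map (algebraMap SP DQ) := by
    rw [IsScalarTower.algebraMap_eq A S D, ← Ideal.map_map, Ideal.map_map (f := algebraMap S D),
      ← IsScalarTower.algebraMap_eq S D DQ, IsScalarTower.algebraMap_eq S SP DQ, ← Ideal.map_map]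
    refine Ideal.map_mono ?_
    rw [← Localization.AtPrime.map_eq_maximalIdeal (I := Q.comap (algebraMap S D))]
    exact Ideal.map_mono (Ideal.map_le_iff_le_comap.2 hP.ge)
  have hapx : ∀ t : D, ∃ x : SP, algebraMap D DQ t - algebraMap SP DQ x ∈
      (maximalIdeal SP).map (algebraMap SP DQ) := by
    intro t
    obtain ⟨s, hs⟩ := happ t
    refine ⟨algebraMap S SP s, ?_⟩
    rw [← IsScalarTower.algebraMap_apply, IsScalarTower.algebraMap_apply S D DQ, ← map_sub]
    exact hle (Ideal.mem_map_of_mem _ hs)
  obtain ⟨hm, hk⟩ := Component.of_approx (T := D) (A := SP) (S := DQ) Q hapx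
  obtain ⟨ψ, hψ⟩ := Unram.SmoothCompletion.exists_map (A := SP) (B := DQ)
  have hbij := Groth.Agent.S9232.result SP DQ hm hk ψ hψ
  let e : EGA4.Cpl SP ≃ₐ[SP] EGA4.Cpl DQ :=
    AlgEquiv.ofRingEquiv (f := RingEquiv.ofBijective ψ hbij) fun a =>
      (RingHom.congr_fun hψ a).trans (IsScalarTower.algebraMap_apply SP DQ (EGA4.Cpl DQ) a).symm
  refine Groth.Agent.Lib.Henselian.FormalFibres.isRegularHom_congr e.symm ?_
  refine Groth.Agent.S9294.result SP DQ (EGA4.Cpl DQ) h1 (hD.2 Q) fun p _ => ?_
  haveI : IsNoetherianRing (p.Fiber (EGA4.Cpl SP)) :=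
    Groth.Agent.Lib.Excellent.FibreNoetherian.isNoetherianRing_fibre (A := SP) _ p
  exact isNoetherianRing_of_ringEquiv (p.Fiber (EGA4.Cpl SP))
    (Algebra.TensorProduct.congr (AlgEquiv.refl : p.ResidueField ≃ₐ[p.ResidueField] p.ResidueField) e).toRingEquiv

/-- Approximation of the completed base change. -/
theorem approx (A S : Type u) [CommRing A] [IsLocalRing A] [IsNoetherianRing A] [CommRing S] [Algebra A S]
    (t : S ⊗[A] EGA4.Cpl A) :
    ∃ s : S, t - algebraMap S (S ⊗[A] EGA4.Cpl A) s ∈
      (maximalIdeal A).map (algebraMap A (S ⊗[A] EGA4.Cpl A)) := by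
  induction t using TensorProduct.induction_on with
  | zero => exact ⟨0, by simp⟩
  | add x y hx hy =>
    obtain ⟨a, ha⟩ := hx
    obtain ⟨b, hb⟩ := hy
    refine ⟨a + b, ?_⟩
    rw [map_add, add_sub_add_comm]
    exact Ideal.add_mem _ ha hb
  | tmul s c =>
    obtain ⟨z, hz⟩ := (AdicCompletion.residueField_map_bijective A).2 (residue (EGA4.Cpl A) c)
    obtain ⟨a, rfl⟩ := residue_surjective z
    rw [ResidueField.map_residue] at hz
    refine ⟨algebraMap A S a * s, ?_⟩
    have hc : c - algebraMap A (EGA4.Cpl A) a ∈ (maximalIdeal A).map (algebraMap A (EGA4.Cpl A)) := by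
      rw [← AdicCompletion.maximalIdeal_eq_map, ← residue_eq_zero_iff, map_sub, hz, sub_self]
    have key : s ⊗ₜ[A] c - algebraMap S (S ⊗[A] EGA4.Cpl A) (algebraMap A S a * s) =
        algebraMap S _ s * (Algebra.TensorProduct.includeRight : EGA4.Cpl A →ₐ[A] S ⊗[A] EGA4.Cpl A)
          (c - algebraMap A (EGA4.Cpl A) a) := by
      change _ - (algebraMap A S a * s) ⊗ₜ[A] (1 : EGA4.Cpl A) =
        (s ⊗ₜ[A] (1 : EGA4.Cpl A)) * ((1 : S) ⊗ₜ[A] (c - algebraMap A (EGA4.Cpl A) a))
      rw [Algebra.TensorProduct.tmul_mul_tmul, mul_one, one_mul, TensorProduct.tmul_sub,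
        Algebra.algebraMap_eq_smul_one (A := EGA4.Cpl A), TensorProduct.tmul_smul, TensorProduct.smul_tmul',
        Algebra.smul_def]
    rw [key]
    refine Ideal.mul_mem_left _ _ ?_
    have h2 := Ideal.mem_map_of_mem
      (Algebra.TensorProduct.includeRight : EGA4.Cpl A →ₐ[A] S ⊗[A] EGA4.Cpl A).toRingHom hc
    rwa [Ideal.map_map, AlgHom.toRingHom_eq_coe, AlgHom.comp_algebraMap] at h2

/-- The closed points case, over a local ring with regular formal fibres. -/
theorem isRegularHom_over_local (A : Type u) [CommRing A] [IsLocalRing A] [IsNoetherianRing A]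
    (hA : CAlg.IsRegularHom A (EGA4.Cpl A)) (S : Type u) [CommRing S] [Algebra A S]
    [Algebra.FiniteType A S] (P : Ideal S) [P.IsPrime]
    (hP : P.comap (algebraMap A S) = maximalIdeal A) :
    CAlg.IsRegularHom (Localization.AtPrime P) (EGA4.Cpl (Localization.AtPrime P)) := by
  haveI : IsNoetherianRing S := Algebra.FiniteType.isNoetherianRing A S
  have hreg : CAlg.IsRegularHom S (S ⊗[A] EGA4.Cpl A) := Groth.Agent.S9293.result A (EGA4.Cpl A) S hA
  letI : Algebra (EGA4.Cpl A) (S ⊗[A] EGA4.Cpl A) := Algebra.TensorProduct.rightAlgebra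
  haveI : Algebra.FiniteType (EGA4.Cpl A) (S ⊗[A] EGA4.Cpl A) := Algebra.FiniteType.equiv
    (inferInstance : Algebra.FiniteType (EGA4.Cpl A) (EGA4.Cpl A ⊗[A] S))
    (Algebra.TensorProduct.commRight A (EGA4.Cpl A) S)
  haveI : IsNoetherianRing (S ⊗[A] EGA4.Cpl A) := Algebra.FiniteType.isNoetherianRing (EGA4.Cpl A) _
  haveI : Module.FaithfullyFlat A (EGA4.Cpl A) := Module.FaithfullyFlat.of_flat_of_isLocalHom
  obtain ⟨Q, hQ⟩ := PrimeSpectrum.comap_surjective_of_faithfullyFlat (A := S)
    (B := S ⊗[A] EGA4.Cpl A) ⟨P, inferInstance⟩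
  exact isRegularHom_of_cover A S _ hreg (CompleteFT.isGRing (EGA4.Cpl A) _) (approx A S) Q.asIdeal P
    (congrArg PrimeSpectrum.asIdeal hQ) hP

/-- Algebras of finite type over G-rings are G-rings. -/
theorem isGRing (R : Type u) [CommRing R] (hR : CAlg.IsGRing R) (S : Type u) [CommRing S] [Algebra R S]
    [Algebra.FiniteType R S] : CAlg.IsGRing S := by
  haveI := hR.1
  haveI : IsNoetherianRing S := Algebra.FiniteType.isNoetherianRing R S
  refine ⟨inferInstance, fun P _ => ?_⟩
  let p := P.comap (algebraMap R S)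
  let A := Localization.AtPrime p
  haveI : IsNoetherianRing A := IsLocalization.isNoetherianRing p.primeCompl A inferInstance
  let N := Algebra.algebraMapSubmonoid S p.primeCompl
  let S' := Localization N
  letI : Algebra A S' := (IsLocalization.map S' (algebraMap R S) (show p.primeCompl ≤ N.comap (algebraMap R S) from
    fun s hs => ⟨s, hs, rfl⟩)).toAlgebra
  haveI : IsScalarTower R A S' := .of_algebraMap_eq fun s => by
    rw [RingHom.algebraMap_toAlgebra, IsLocalization.map_eq, ← IsScalarTower.algebraMap_apply]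
  haveI : Algebra.IsPushout R A S S' := (Algebra.isPushout_of_isLocalization p.primeCompl A S S').symm
  haveI : Algebra.FiniteType A S' := Algebra.FiniteType.equiv
    (inferInstance : Algebra.FiniteType A (A ⊗[R] S)) (Algebra.IsPushout.equiv R A S S')
  have hd : Disjoint (N : Set S) P := by
    rw [Set.disjoint_left]
    rintro _ ⟨r, hr, rfl⟩ h
    exact hr h
  let P' := P.map (algebraMap S S')
  haveI : P'.IsPrime := IsLocalization.isPrime_of_isPrime_disjoint N S' P inferInstance hd
  have hP' : P'.comap (algebraMap S S') = P :=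
    IsLocalization.comap_map_of_isPrime_disjoint N S' ‹P.IsPrime› hd
  have hmax : P'.comap (algebraMap A S') = maximalIdeal A := by
    haveI : (P'.comap (algebraMap A S')).IsPrime := Ideal.IsPrime.comap _
    refine le_antisymm (IsLocalRing.le_maximalIdeal (Ideal.IsPrime.ne_top ‹_›)) ?_
    rw [← Localization.AtPrime.map_eq_maximalIdeal, Ideal.map_le_iff_le_comap, Ideal.comap_comap,
      ← IsScalarTower.algebraMap_eq, IsScalarTower.algebraMap_eq R S S', ← Ideal.comap_comap, hP']
  have h := isRegularHom_over_local A (hR.2 p) S' P' hmax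
  haveI : IsNoetherianRing S' := IsLocalization.isNoetherianRing N S' inferInstance
  haveI : IsNoetherianRing (Localization.AtPrime P') := IsLocalization.isNoetherianRing P'.primeCompl _ inferInstance
  haveI := IsLocalization.isLocalization_isLocalization_atPrime_isLocalization N (Localization.AtPrime P') P'
  haveI hloc : IsLocalization (P'.comap (algebraMap S S')).primeCompl (Localization.AtPrime P') := this
  haveI : IsLocalization P.primeCompl (Localization.AtPrime P') := by
    convert hloc using 2 <;> simp only [hP']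
  exact Groth.Agent.Lib.Excellent.GRingStability.isRegularHom_cpl_of_ringEquiv (Localization.AtPrime P')
    (Localization.AtPrime P) (IsLocalization.algEquiv P.primeCompl _ _).toRingEquiv h

end Groth.Agent.Lib.GRing.FiniteType
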