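import Groth.Agent.S0598
import Groth.Agent.S0599
import Groth.Agent.S0600
import Groth.Agent.S9294
import Groth.Agent.S19379
import Mathlib.RingTheory.EssentialFiniteness
import Mathlib.RingTheory.Spectrum.Prime.RingHom

/-! Regularity of maps into completions of polynomial rings over G-rings. -/

set_option autoImplicit false

universe u

open scoped TensorProduct

namespace Groth.Agent.Lib.GRing.Poly

theorem fiber_noetherian (R S : Type u) [CommRing R] [CommRing S] [IsNoetherianRing S] [Algebra R S]
    (p : Ideal R) [p.IsPrime] : IsNoetherianRing (p.Fiber S) := by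
  haveI : Algebra.EssFiniteType R p.ResidueField := inferInstance
  haveI : IsNoetherianRing (S ⊗[R] p.ResidueField) := Algebra.EssFiniteType.isNoetherianRing S _
  exact isNoetherianRing_of_ringEquiv (S ⊗[R] p.ResidueField)
    (Algebra.TensorProduct.comm R S p.ResidueField).toRingEquiv

theorem isRegularHom_adic (D : Type u) [CommRing D] (hD : CAlg.IsGRing D) (P : Type u) [CommRing P]
    [Algebra D P] [Algebra.FiniteType D P] [Algebra.FormallySmooth D P] (J : Ideal P) :
    CAlg.IsRegularHom D (AdicCompletion J P) := by
  haveI := hD.1
  haveI : IsNoetherianRing P := Algebra.FiniteType.isNoetherianRing D P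
  haveI : IsNoetherianRing (AdicCompletion J P) :=
    Groth.Agent.Lib.Excellent.CompletionNoetherian.isNoetherianRing_adicCompletion J
  have hP : CAlg.IsGRing P := Groth.Agent.S0599.result D hD P
  exact Groth.Agent.S9294.result D P (AdicCompletion J P) (Groth.Agent.S19379.result D P)
    (Groth.Agent.S0600.result P hP J) fun p _ => fiber_noetherian D _ p

end Groth.Agent.Lib.GRing.Poly
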