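import Groth.Agent.Lib.Cohen.PSDerivation
import Mathlib.RingTheory.MvPowerSeries.Basic
import Mathlib.Algebra.MvPolynomial.Expand

/-!
# Derivations of finite extensions of polynomial rings in characteristic `p`
-/

set_option autoImplicit false
set_option linter.style.haveILetI false

universe u

namespace Groth.Agent.Lib.GRing.PolyDerivation

open Groth.Agent.Lib.Cohen

variable {p : ℕ} [Fact p.Prime] {k : Type u} [Field k] [CharP k p] {d : ℕ}

/-- The polynomials in `X_i ^ p` with coefficients in `F`. -/
noncomputable def rPoly (F : Subfield k) (p d : ℕ) [Fact p.Prime] [CharP k p] :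
    Subring (MvPolynomial (Fin d) k) :=
  (PSDerivation.restricted F p d).comap MvPolynomial.coeToMvPowerSeries.ringHom

theorem mem_rPoly_iff {F : Subfield k} {w : MvPolynomial (Fin d) k} :
    w ∈ rPoly F p d ↔ ∀ n, w.coeff n ∈ F ∧ (¬ (∀ i, p ∣ n i) → w.coeff n = 0) :=
  Iff.rfl

theorem pow_mem_rPoly {F : Subfield k} (hF : ∀ c : k, c ^ p ∈ F) (f : MvPolynomial (Fin d) k) :
    f ^ p ∈ rPoly F p d := by
  change ((f ^ p : MvPolynomial (Fin d) k) : MvPowerSeries (Fin d) k) ∈ PSDerivation.restricted F p d
  rw [MvPolynomial.coe_pow]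
  exact PSDerivation.pow_mem_restricted hF _

theorem mem_rPoly_of_mul {F : Subfield k} {w b : MvPolynomial (Fin d) k}
    (hb : b ∈ rPoly F p d) (hb0 : b ≠ 0) (hwb : w * b ∈ rPoly F p d) : w ∈ rPoly F p d := by
  have hwb' : ((w * b : MvPolynomial (Fin d) k) : MvPowerSeries (Fin d) k) ∈
      PSDerivation.restricted F p d := hwb
  rw [MvPolynomial.coe_mul] at hwb'
  exact PSDerivation.mem_restricted_of_mul (b := (b : MvPowerSeries (Fin d) k)) hb
    (fun h => hb0 (MvPolynomial.coe_injective _ _ (by simpa using h))) hwb'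

theorem finite_rPoly (F : Subfield k) [Module.Finite F k] (hF : ∀ c : k, c ^ p ∈ F) :
    Module.Finite (rPoly F p d) (MvPolynomial (Fin d) k) := by
  classical
  let b := Module.finBasis F k
  let T : Set (MvPolynomial (Fin d) k) :=
    Set.range (fun l => MvPolynomial.C (b l)) ∪ Set.range MvPolynomial.X
  have hint : ∀ x ∈ T, IsIntegral (rPoly F p d) x := fun x _ =>
    ⟨Polynomial.X ^ p - Polynomial.C ⟨x ^ p, pow_mem_rPoly hF x⟩,
      Polynomial.monic_X_pow_sub_C _ (Fact.out : p.Prime).ne_zero, by simp; exact sub_self _⟩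
  have htop : Algebra.adjoin (rPoly F p d) T = ⊤ := by
    refine top_le_iff.1 fun w h => ?_
    clear h
    induction w using MvPolynomial.induction_on with
    | C c =>
      rw [← b.sum_repr c, map_sum]
      refine Subalgebra.sum_mem _ fun l _ => ?_
      rw [Subfield.smul_def, smul_eq_mul, map_mul]
      refine Subalgebra.mul_mem _ ?_ (Algebra.subset_adjoin (Or.inl ⟨l, rfl⟩))
      refine Subalgebra.algebraMap_mem _ (⟨MvPolynomial.C ((b.repr c l : F) : k), fun n => ?_⟩ : rPoly F p d)
      change (MvPolynomial.C ((b.repr c l : F) : k)).coeff n ∈ F ∧ _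
      rw [MvPolynomial.coeff_C]
      refine ⟨by split <;> simp, fun hn => ?_⟩
      change (MvPolynomial.C ((b.repr c l : F) : k)).coeff n = 0
      rw [MvPolynomial.coeff_C, if_neg]
      rintro rfl
      exact hn (by simp)
    | add x y hx hy => exact Subalgebra.add_mem _ hx hy
    | mul_X x i hx => exact Subalgebra.mul_mem _ hx (Algebra.subset_adjoin (Or.inr ⟨i, rfl⟩))
  refine ⟨?_⟩
  rw [← Algebra.top_toSubmodule, ← htop]
  exact fg_adjoin_of_finite ((Set.finite_range _).union (Set.finite_range _)) hint

theorem exists_pow_of_forall {ι : Type u} [Nonempty ι] (F : ι → Subfield k)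
    (hint : ∀ y, (∀ i, y ∈ F i) → ∃ c, c ^ p = y) {w : MvPolynomial (Fin d) k}
    (hw : ∀ i, w ∈ rPoly (F i) p d) : ∃ v, v ^ p = w := by
  classical
  haveI : ExpChar k p := ExpChar.prime Fact.out
  haveI : ExpChar (MvPolynomial (Fin d) k) p := ExpChar.prime Fact.out
  obtain ⟨i₀⟩ := ‹Nonempty ι›
  suffices w ∈ (frobenius (MvPolynomial (Fin d) k) p).range from this
  rw [w.as_sum]
  refine Subring.sum_mem _ fun n hn => ?_
  obtain ⟨c, hc⟩ := hint (w.coeff n) fun i => ((mem_rPoly_iff.1 (hw i)) n).1
  have hdvd : ∀ i, p ∣ n i := by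
    by_contra h
    exact MvPolynomial.mem_support_iff.1 hn (((mem_rPoly_iff.1 (hw i₀)) n).2 h)
  refine ⟨MvPolynomial.monomial (n.mapRange (· / p) (Nat.zero_div p)) c, ?_⟩
  have e : p • n.mapRange (· / p) (Nat.zero_div p) = n :=
    Finsupp.ext fun i => by simp [Nat.mul_div_cancel' (hdvd i)]
  rw [frobenius_def, MvPolynomial.monomial_pow, hc, e]

open scoped nonZeroDivisors in
/-- Some derivation of `A` does not kill `f`. -/
theorem exists_derivation (A : Type u) [CommRing A] [IsDomain A] [Algebra (MvPolynomial (Fin d) k) A]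
    [Module.Finite (MvPolynomial (Fin d) k) A] [FaithfulSMul (MvPolynomial (Fin d) k) A]
    (M : Type u) [Field M] [Algebra A M] [IsFractionRing A M] (f : A)
    (hf : ∀ z : M, z ^ p ≠ algebraMap A M f) :
    ∃ D : Derivation ℤ A A, D f ≠ 0 := by
  classical
  let R := MvPolynomial (Fin d) k
  letI : Algebra R M := ((algebraMap A M).comp (algebraMap R A)).toAlgebra
  haveI : IsScalarTower R A M := IsScalarTower.of_algebraMap_eq fun _ => rfl
  have hinjRM : Function.Injective (algebraMap R M) :=
    (IsFractionRing.injective A M).comp (FaithfulSMul.algebraMap_injective R A)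
  haveI : CharP R p := charP_of_injective_ringHom
    (f := (MvPolynomial.C : k →+* R)) (MvPolynomial.C_injective _ _) p
  haveI : CharP M p := charP_of_injective_ringHom hinjRM p
  haveI : CharP A p := charP_of_injective_ringHom (FaithfulSMul.algebraMap_injective R A) p
  haveI : ExpChar M p := ExpChar.prime Fact.out
  obtain ⟨ι, _, _, _, F, hanti, hfin, hpow, hint⟩ := CofiniteSubfields.exists_family p k
  let G : ι → Subfield M := fun i => Subfield.closure (algebraMap R M '' (rPoly (F i) p d : Set R))
  have hGanti : ∀ i j, i ≤ j → G j ≤ G i := fun i j hij => Subfield.closure_mono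
    (Set.image_mono fun w hw n => ⟨hanti i j hij (hw n).1, (hw n).2⟩)
  -- elements of the fraction field of `R` in all `G i` are `p`-th powers
  have hGint : ∀ a b : R, b ≠ 0 → (∀ i, algebraMap R M a / algebraMap R M b ∈ G i) →
      ∃ c e : R, e ≠ 0 ∧ (algebraMap R M c / algebraMap R M e) ^ p = algebraMap R M a / algebraMap R M b := by
    intro a b hb h
    have hp1 : p - 1 + 1 = p := Nat.succ_pred_eq_of_pos (Fact.out : p.Prime).pos
    have hw : ∀ i, a * b ^ (p - 1) ∈ rPoly (F i) p d := by
      intro i
      obtain ⟨y, hy, z, hz, hyz⟩ := Subfield.mem_closure_iff.1 (h i)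
      have hmap : ∀ y ∈ Subring.closure (algebraMap R M '' (rPoly (F i) p d : Set R)),
          ∃ y' ∈ rPoly (F i) p d, algebraMap R M y' = y := by
        intro y hy
        rw [← RingHom.map_closure, Subring.closure_eq] at hy
        exact hy
      obtain ⟨y', hy', rfl⟩ := hmap y hy
      obtain ⟨z', hz', rfl⟩ := hmap z hz
      have hb' : algebraMap R M b ≠ 0 := (map_ne_zero_iff _ hinjRM).2 hb
      rcases eq_or_ne z' 0 with rfl | hz0
      · rw [map_zero, div_zero, eq_comm, div_eq_zero_iff] at hyz
        rw [hinjRM ((hyz.resolve_right hb').trans (map_zero _).symm), zero_mul]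
        exact Subring.zero_mem _
      refine mem_rPoly_of_mul hz' hz0 ?_
      rw [div_eq_div_iff ((map_ne_zero_iff _ hinjRM).2 hz0) hb', ← map_mul, ← map_mul] at hyz
      have : a * b ^ (p - 1) * z' = y' * b ^ p := by
        conv_rhs => rw [← hp1, pow_succ', ← mul_assoc, hinjRM hyz]
        ring
      rw [this]
      exact Subring.mul_mem _ hy' (pow_mem_rPoly (hpow i) b)
    obtain ⟨v, hv⟩ := exists_pow_of_forall F hint hw
    refine ⟨v, b, hb, ?_⟩
    have hb' : algebraMap R M b ≠ 0 := (map_ne_zero_iff _ hinjRM).2 hb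
    rw [div_pow, ← map_pow, hv, div_eq_div_iff (pow_ne_zero _ hb') hb', map_mul, map_pow]
    rw [mul_assoc, ← pow_succ, hp1]
  -- the fraction field `L` of `R` inside `M`, and a basis of `M` over it
  let L : Subfield M := Subfield.closure (Set.range (algebraMap R M))
  have hL : ∀ x ∈ L, ∃ a b : R, b ≠ 0 ∧ algebraMap R M a / algebraMap R M b = x := by
    intro x hx
    obtain ⟨y, hy, z, hz, rfl⟩ := Subfield.mem_closure_iff.1 hx
    rw [← RingHom.coe_range, Subring.closure_eq] at hy hz
    obtain ⟨a, rfl⟩ := hy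
    obtain ⟨b, rfl⟩ := hz
    rcases eq_or_ne b 0 with rfl | hb
    · exact ⟨0, 1, one_ne_zero, by simp⟩
    · exact ⟨a, b, hb, rfl⟩
  have hRL : ∀ r : R, algebraMap R M r ∈ L := fun r => Subfield.subset_closure ⟨r, rfl⟩
  obtain ⟨gs, hgs⟩ := Module.Finite.fg_top (R := R) (M := A)
  let S : Subalgebra L M := Algebra.adjoin L ((fun a => algebraMap A M a) '' (gs : Set A))
  have hAS : ∀ a : A, algebraMap A M a ∈ S := by
    intro a
    have ha : a ∈ Submodule.span R (gs : Set A) := hgs ▸ Submodule.mem_top
    induction ha using Submodule.span_induction with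
    | mem x hx => exact Algebra.subset_adjoin ⟨x, hx, rfl⟩
    | zero => rw [map_zero]; exact S.zero_mem
    | add x y _ _ hx hy => rw [map_add]; exact S.add_mem hx hy
    | smul r x _ hx =>
      rw [Algebra.smul_def, map_mul, ← IsScalarTower.algebraMap_apply]
      exact S.mul_mem (S.algebraMap_mem ⟨_, hRL r⟩) hx
  haveI : Module.Finite L M := by
    have hint' : ∀ x ∈ (fun a => algebraMap A M a) '' (gs : Set A), IsIntegral L x := by
      rintro _ ⟨a, -, rfl⟩
      obtain ⟨q, hqm, hq⟩ := (Algebra.IsIntegral.isIntegral (R := R) a).map (IsScalarTower.toAlgHom R A M)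
      refine ⟨q.map (((algebraMap R M).codRestrict L hRL)), hqm.map _, ?_⟩
      rw [Polynomial.eval₂_map]
      exact hq
    haveI : Module.Finite L S := Module.Finite.iff_fg.2 (fg_adjoin_of_finite (gs.finite_toSet.image _) hint')
    haveI : Algebra.IsIntegral L S := Algebra.IsIntegral.of_finite L S
    have hS : S = ⊤ := by
      refine top_le_iff.1 fun x _ => ?_
      obtain ⟨a, b, hb, rfl⟩ := IsFractionRing.div_surjective A x
      rw [div_eq_mul_inv]
      refine S.mul_mem (hAS a) ?_
      exact Subalgebra.inv_mem_of_algebraic S (x := ⟨_, hAS b⟩)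
        (isAlgebraic_iff_isIntegral.2 (IsIntegral.map S.val (Algebra.IsIntegral.isIntegral (⟨_, hAS b⟩ : S))))
    exact Module.Finite.equiv ((Subalgebra.equivOfEq _ _ hS).toLinearEquiv.trans Subalgebra.topEquiv.toLinearEquiv)
  let v := Module.finBasis L M
  have hsep : ∃ i₀, ∀ i, i₀ ≤ i → ∀ g : Option (Fin (Module.finrank L M)) → M, (∀ a, g a ∈ G i) →
      ∑ a, g a * (Option.elim a (algebraMap A M f) fun l => v l ^ p) = 0 → g = 0 := by
    refine Groth.Agent.Lib.PBasis.Eventual.eventually_relations G hGanti _ fun g hg hsum => ?_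
    -- over the intersection the coefficients are `p`-th powers of elements of `L`
    have hroot : ∀ a, ∃ e : L, (e : M) ^ p = g a := by
      intro a
      obtain ⟨i₁⟩ := ‹Nonempty ι›
      have hGL : G i₁ ≤ L := Subfield.closure_mono (Set.image_subset_range _ _)
      obtain ⟨r, s, hs, hrs⟩ := hL _ (hGL (hg a i₁))
      obtain ⟨c, e, he, hce⟩ := hGint r s hs fun i => hrs ▸ hg a i
      exact ⟨⟨_, L.div_mem (hRL c) (hRL e)⟩, hce.trans hrs⟩
    choose e he using hroot
    have hsum' : (e none : M) ^ p * algebraMap A M f + (∑ l, (e (some l)) • v l) ^ p = 0 := by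
      rw [sum_pow_char, ← hsum, Fintype.sum_option]
      simp only [Option.elim, ← he]
      congr 1
      refine Finset.sum_congr rfl fun l _ => ?_
      rw [Subfield.smul_def, smul_eq_mul, mul_pow]
    have he0 : e none = 0 := by
      by_contra h0
      have h0' : (e none : M) ≠ 0 := fun h => h0 (Subtype.ext h)
      refine hf (-(∑ l, (e (some l)) • v l) / (e none : M)) ?_
      have hn : (-(∑ l, (e (some l)) • v l)) ^ p = -((∑ l, (e (some l)) • v l) ^ p) := by
        rw [neg_pow, show (-1 : M) ^ p = -1 by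
          rw [← frobenius_def, map_neg, map_one], neg_one_mul]
      rw [div_pow, hn, eq_neg_of_add_eq_zero_right hsum', neg_neg,
        mul_div_cancel_left₀ _ (pow_ne_zero _ h0')]
    have hsum'' : ∑ l, (e (some l)) • v l = 0 := by
      rw [he0, ZeroMemClass.coe_zero, zero_pow (Fact.out : p.Prime).ne_zero, zero_mul, zero_add] at hsum'
      exact eq_zero_of_pow_eq_zero hsum'
    funext a
    cases a with
    | none => rw [← he, he0]; simp [(Fact.out : p.Prime).ne_zero]
    | some l =>
      rw [← he, Fintype.linearIndependent_iff.1 v.linearIndependent _ hsum'' l]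
      simp [(Fact.out : p.Prime).ne_zero]
  obtain ⟨i₀, hi₀⟩ := hsep
  -- the subfield `M^p · G i₀`
  let T : Subalgebra (G i₀) M := Algebra.adjoin (G i₀) (Set.range fun l => v l ^ p)
  have hGp : ∀ x ∈ L, x ^ p ∈ G i₀ := by
    intro x hx
    obtain ⟨a, b, -, rfl⟩ := hL x hx
    rw [div_pow, ← map_pow, ← map_pow]
    exact (G i₀).div_mem (Subfield.subset_closure ⟨_, pow_mem_rPoly (hpow i₀) a, rfl⟩)
      (Subfield.subset_closure ⟨_, pow_mem_rPoly (hpow i₀) b, rfl⟩)
  let V : Submodule (G i₀) M := Submodule.span (G i₀) (Set.range fun l => v l ^ p)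
  have hMp : ∀ x : M, x ^ p ∈ V := by
    intro x
    rw [← v.sum_repr x, sum_pow_char]
    refine Submodule.sum_mem _ fun l _ => ?_
    rw [Subfield.smul_def, smul_eq_mul, mul_pow]
    exact Submodule.smul_mem V (⟨_, hGp _ (v.repr x l).2⟩ : G i₀) (Submodule.subset_span ⟨l, rfl⟩)
  have hTV : ∀ x ∈ T, x ∈ V := by
    have h1 : (1 : M) ∈ V := by simpa using hMp 1
    have hmul : ∀ x ∈ V, ∀ y ∈ V, x * y ∈ V := by
      intro x hx y hy
      induction hx using Submodule.span_induction with
      | mem z hz =>
        obtain ⟨l, rfl⟩ := hz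
        induction hy using Submodule.span_induction with
        | mem z hz => obtain ⟨l', rfl⟩ := hz; rw [← mul_pow]; exact hMp _
        | zero => rw [mul_zero]; exact V.zero_mem
        | add a b _ _ ha hb => rw [mul_add]; exact V.add_mem ha hb
        | smul r a _ ha => rw [mul_smul_comm]; exact V.smul_mem r ha
      | zero => rw [zero_mul]; exact V.zero_mem
      | add a b _ _ ha hb => rw [add_mul]; exact V.add_mem ha hb
      | smul r a _ ha => rw [smul_mul_assoc]; exact V.smul_mem r ha
    intro x hx
    induction hx using Algebra.adjoin_induction with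
    | mem z hz => exact Submodule.subset_span hz
    | algebraMap r => rw [Algebra.algebraMap_eq_smul_one]; exact V.smul_mem r h1
    | add a b _ _ ha hb => exact V.add_mem ha hb
    | mul a b _ _ ha hb => exact hmul a ha b hb
  have hfT : algebraMap A M f ∉ T := by
    intro hfm
    obtain ⟨c, hc⟩ := (Submodule.mem_span_range_iff_exists_fun _).1 (hTV _ hfm)
    have := congrFun (hi₀ i₀ le_rfl (fun a => Option.elim a (-1) fun l => (c l : M)) (fun a => by
        cases a with
        | none => exact (G i₀).neg_mem (G i₀).one_mem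
        | some l => exact (c l).2) (by
      rw [Fintype.sum_option]
      simp only [Option.elim, neg_mul, one_mul]
      rw [← hc, neg_add_eq_zero]
      exact Finset.sum_congr rfl fun l _ => Subfield.smul_def _ _)) none
    simp at this
  have hpT : ∀ x : M, x ^ p ∈ T := fun x => by
    have hle : V ≤ Subalgebra.toSubmodule T := Submodule.span_le.2 Algebra.subset_adjoin
    exact hle (hMp x)
  haveI : Algebra.IsIntegral (G i₀) T := by
    haveI : Module.Finite (G i₀) (Subalgebra.toSubmodule T) := Module.Finite.iff_fg.2 <| by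
      have : Subalgebra.toSubmodule T = V :=
        le_antisymm hTV (Submodule.span_le.2 Algebra.subset_adjoin)
      rw [this]
      exact Submodule.fg_span (Set.finite_range _)
    exact Algebra.IsIntegral.of_finite _ _
  letI : Field T := (isField_of_isIntegral_of_isField' (R := G i₀) (S := T) (Field.toIsField _)).toField
  have hD : KaehlerDifferential.D T M (algebraMap A M f) ≠ 0 := by
    intro h0
    have := Groth.Agent.Lib.PBasis.Eventual.mem_pPowerSubalgebra_of_D_eq_zero (p := p) h0
    rw [Groth.Agent.Lib.PBasis.Basic.pPower_eq_range p fun b => ⟨⟨b ^ p, hpT b⟩, rfl⟩] at this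
    obtain ⟨t, ht⟩ := Algebra.mem_bot.1 this
    exact hfT (ht ▸ t.2)
  obtain ⟨φ, hφ⟩ : ∃ φ : Ω[M⁄T] →ₗ[M] M, φ (KaehlerDifferential.D T M (algebraMap A M f)) ≠ 0 := by
    by_contra! h
    exact hD ((Module.forall_dual_apply_eq_zero_iff M _).1 h)
  let D : Derivation T M M := φ.compDer (KaehlerDifferential.D T M)
  -- `R` is finite over the rPoly series, which `D` kills
  let R₀ := rPoly (F i₀) p d
  haveI := hfin i₀
  haveI : Module.Finite R₀ R := finite_rPoly (F i₀) (hpow i₀)
  haveI : Module.Finite R₀ A := Module.Finite.trans R A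
  have hD0 : ∀ r : R₀, D (algebraMap R M (r : R)) = 0 := fun r => by
    have hrT : algebraMap R M (r : R) ∈ T :=
      T.algebraMap_mem ⟨_, Subfield.subset_closure ⟨_, r.2, rfl⟩⟩
    exact D.map_algebraMap (⟨_, hrT⟩ : T)
  obtain ⟨gs', hgs'⟩ := Module.Finite.fg_top (R := R₀) (M := A)
  obtain ⟨⟨s, hs⟩, hs'⟩ := IsLocalization.exist_integer_multiples_of_finset A⁰
    (gs'.image fun a => D (algebraMap A M a))
  have hmem : ∀ a : A, ∃ a' : A, algebraMap A M a' = algebraMap A M s * D (algebraMap A M a) := by
    intro a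
    have ha : a ∈ Submodule.span R₀ (gs' : Set A) := hgs' ▸ Submodule.mem_top
    induction ha using Submodule.span_induction with
    | mem x hx =>
      obtain ⟨a', ha'⟩ := hs' _ (Finset.mem_image_of_mem _ hx)
      exact ⟨a', ha'.trans (by rw [Algebra.smul_def])⟩
    | zero => exact ⟨0, by simp⟩
    | add x y _ _ hx hy =>
      obtain ⟨a, ha⟩ := hx
      obtain ⟨b, hb⟩ := hy
      exact ⟨a + b, by rw [map_add, ha, hb, map_add, map_add, mul_add]⟩
    | smul r x _ hx =>
      obtain ⟨a, ha⟩ := hx
      refine ⟨(r : R) • a, ?_⟩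
      have e : algebraMap A M (r • x) = algebraMap R M (r : R) * algebraMap A M x := by
        change algebraMap A M ((r : R) • x) = _
        rw [Algebra.smul_def, map_mul, ← IsScalarTower.algebraMap_apply]
      rw [e, Derivation.leibniz, hD0, smul_zero, add_zero, smul_eq_mul, Algebra.smul_def, map_mul,
        ← IsScalarTower.algebraMap_apply, ha]
      ring
  choose E hE using hmem
  have hinjA := IsFractionRing.injective A M
  refine ⟨Derivation.mk' (AddMonoidHom.toIntLinearMap
    { toFun := E
      map_zero' := hinjA (by rw [hE, map_zero, map_zero, mul_zero])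
      map_add' := fun a b => hinjA (by rw [hE, map_add, map_add, map_add, mul_add, hE, hE]) })
    (fun a b => hinjA (by
      change algebraMap A M (E (a * b)) = algebraMap A M (a • E b + b • E a)
      rw [hE, map_mul, Derivation.leibniz, smul_eq_mul, smul_eq_mul, smul_eq_mul, smul_eq_mul, map_add,
        map_mul, map_mul, hE, hE]
      ring)), fun h => hφ ?_⟩
  have h' : E f = 0 := h
  have := hE f
  rw [h', map_zero, eq_comm, mul_eq_zero] at this
  exact this.resolve_left ((map_ne_zero_iff _ hinjA).2 (nonZeroDivisors.ne_zero hs))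

end Groth.Agent.Lib.GRing.PolyDerivation
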