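import Groth.Agent.Lib.GRing.Criterion
import Groth.Agent.Lib.GRing.PolyDerivation
import Mathlib.RingTheory.NoetherNormalization
import Mathlib.RingTheory.RegularLocalRing.Polynomial

/-!
# Algebras of finite type over a field are G-rings
-/

set_option autoImplicit false
set_option linter.style.haveILetI false

universe u

namespace Groth.Agent.Lib.GRing.FiniteTypeField

/-- Algebras of finite type over a field are G-rings. -/
theorem isGRing (k : Type u) [Field k] (R : Type u) [CommRing R] [Algebra k R]
    [Algebra.FiniteType k R] : CAlg.IsGRing R := by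
  haveI : IsNoetherianRing R := Algebra.FiniteType.isNoetherianRing k R
  refine Criterion.isGRing_of_finite_injective R fun q _ => ?_
  haveI : IsDomain (R ⧸ q) := Ideal.Quotient.isDomain q
  obtain ⟨n, g, hginj, hgfin⟩ := exists_finite_inj_algHom_of_fg k (R ⧸ q)
  refine ⟨MvPolynomial (Fin n) k, inferInstance, g.toRingHom, inferInstance, inferInstance,
    fun p hp hchar => ?_, hginj, hgfin⟩
  haveI := Fact.mk hp
  haveI : CharP k p := (RingHom.charP_iff (MvPolynomial.C (σ := Fin n) (R := k))
    (MvPolynomial.C_injective _ _) p).2 hchar
  intro A _ _ _ _ _ M _ _ _ f hf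
  exact PolyDerivation.exists_derivation (p := p) (k := k) (d := n) A M f hf

/-- The local G-ring property of algebras of finite type over a field, at every prime. -/
theorem isRegularHom_completion (k : Type u) [Field k] (R : Type u) [CommRing R] [Algebra k R]
    [Algebra.FiniteType k R] (P : Ideal R) [P.IsPrime] :
    CAlg.IsRegularHom (Localization.AtPrime P) (EGA4.Cpl (Localization.AtPrime P)) :=
  (isGRing k R).2 P

end Groth.Agent.Lib.GRing.FiniteTypeField
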