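import Groth.Agent.S0598
import Groth.Agent.S0599
import Groth.Agent.S4696
import Groth.Agent.S4706
import Groth.Agent.S19379
import Groth.Agent.Lib.NormalTensor.Formal
import Groth.Agent.Lib.Excellent.GRingStability
import Groth.Agent.Lib.Excellent.CompletionNoetherian
import Mathlib.RingTheory.EssentialFiniteness
import Mathlib.RingTheory.AdicCompletion.AsTensorProduct
import Mathlib.RingTheory.RingHom.FaithfullyFlat

/-! Algebras essentially of finite type over G-rings, and normal formal fibres. -/

set_option autoImplicit false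
set_option linter.style.haveILetI false

universe u

open IsLocalRing
open scoped TensorProduct

namespace Groth.Agent.Lib.GRing.EssFinite

theorem isGRing (R : Type u) [CommRing R] (hR : CAlg.IsGRing R) (S : Type u) [CommRing S] [Algebra R S]
    [Algebra.EssFiniteType R S] : CAlg.IsGRing S :=
  Groth.Agent.Lib.Excellent.GRingStability.isGRing_of_isLocalization
    (Algebra.EssFiniteType.submonoid R S)
    (Groth.Agent.S0599.result R hR (Algebra.EssFiniteType.subalgebra R S))

theorem isNormalHom_of_isRegularHom (A B : Type u) [CommRing A] [CommRing B] [Algebra A B]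
    (h : CAlg.IsRegularHom A B) : EGA4.IsNormalHom A B :=
  ⟨h.1, fun p _ E _ _ hE =>
    haveI := (h.2 p).2 E hE
    Groth.Agent.H2.Rigid.FieldBC.isNormalRing_of_isRegularRing _⟩

/-- A local ring with a faithfully flat normal cover which is a G-ring has geometrically normal formal
fibres. -/
theorem of_cover (B T : Type u) [CommRing B] [IsLocalRing B] [IsNoetherianRing B] [CommRing T] [Algebra B T]
    [Module.FaithfullyFlat B T] (hT : CAlg.IsGRing T) (hn : EGA4.IsNormalHom B T) :
    EGA4.HasGeomNormalFormalFibres B := by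
  haveI := hT.1
  obtain ⟨Q, hQ⟩ := PrimeSpectrum.comap_surjective_of_faithfullyFlat (A := B) (B := T)
    ⟨maximalIdeal B, inferInstance⟩
  let T' := Localization.AtPrime Q.asIdeal
  haveI : IsNoetherianRing T' := IsLocalization.isNoetherianRing Q.asIdeal.primeCompl _ inferInstance
  haveI : IsLocalHom (algebraMap B T') := ((local_hom_TFAE _).out 0 4 rfl rfl).mpr (by
    rw [IsScalarTower.algebraMap_eq B T T', ← Ideal.comap_comap]
    rw [show Ideal.comap (algebraMap T T') (maximalIdeal T') = Q.asIdeal from
      IsLocalization.AtPrime.under_maximalIdeal T' Q.asIdeal]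
    exact congrArg PrimeSpectrum.asIdeal hQ)
  haveI : Algebra.FormallySmooth T T' :=
    haveI := Algebra.FormallyEtale.of_isLocalization (Rₘ := T') Q.asIdeal.primeCompl
    inferInstance
  exact Groth.Agent.S4706.result B T'
    (Groth.Agent.S4696.result B T T' hn
      (isNormalHom_of_isRegularHom T T' (Groth.Agent.S19379.result T T'))) (hT.2 Q.asIdeal)

end Groth.Agent.Lib.GRing.EssFinite

namespace Groth.Agent.Lib.GRing.EssFinite

theorem isGRing_of_ringEquiv {R S : Type u} [CommRing R] [CommRing S] (e : R ≃+* S) (hR : CAlg.IsGRing R) :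
    CAlg.IsGRing S := by
  letI := e.toRingHom.toAlgebra
  haveI : Algebra.FiniteType R S :=
    Algebra.FiniteType.of_surjective (Algebra.ofId R S) e.surjective
  exact Groth.Agent.S0599.result R hR S

theorem isGRing_tensor (A B C : Type u) [CommRing A] [CommRing B] [CommRing C] [Algebra A B] [Algebra A C]
    [Algebra.EssFiniteType A B] (hC : CAlg.IsGRing C) : CAlg.IsGRing (B ⊗[A] C) :=
  isGRing_of_ringEquiv (Algebra.TensorProduct.comm A C B).toRingEquiv (isGRing C hC (C ⊗[A] B))

theorem hasGeomNormalFormalFibres (A : Type u) [CommRing A] [IsNoetherianRing A] [IsLocalRing A]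
    (hA : EGA4.HasGeomNormalFormalFibres A) (B : Type u) [CommRing B] [IsNoetherianRing B] [IsLocalRing B]
    [Algebra A B] [Algebra.EssFiniteType A B] : EGA4.HasGeomNormalFormalFibres B := by
  haveI : Module.FaithfullyFlat A (EGA4.Cpl A) := Module.FaithfullyFlat.of_flat_of_isLocalHom
  exact of_cover B (B ⊗[A] EGA4.Cpl A)
    (isGRing_tensor A B (EGA4.Cpl A) (Groth.Agent.S0598.result (EGA4.Cpl A)))
    (Groth.Agent.H2.Rigid.FieldBC.isNormalHom_baseChange A (EGA4.Cpl A) B
      (Groth.Agent.Lib.NormalTensor.Formal.isNormalHom_cpl hA))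

end Groth.Agent.Lib.GRing.EssFinite
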