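import Groth.Agent.Lib.Excellent.CompletionNoetherian
import Groth.Agent.Lib.Excellent.Transport
import Groth.Agent.Lib.Henselian.Finite
import Groth.Agent.Lib.Unram.SmoothCompletion
import Groth.Agent.Lib.Adic.Complete
import Groth.Agent.Lib.Adic.Transfer
import Groth.Agent.S9232

/-!
# Completions of finite algebras as components of base changes of completions
-/

set_option autoImplicit false
set_option linter.style.haveILetI false

universe u

open IsLocalRing
open scoped TensorProduct

namespace Groth.Agent.Lib.GRing.Component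

theorem henselian (C : Type u) [CommRing C] [IsLocalRing C] [IsAdicComplete (maximalIdeal C) C] :
    HenselianLocalRing C :=
  { ‹IsLocalRing C› with
    is_henselian := fun f hf a h1 h2 =>
      HenselianRing.is_henselian (I := maximalIdeal C) f hf a h1 (h2.map _) }

section Generic

variable {A S T : Type u} [CommRing A] [CommRing S] [CommRing T]

theorem approx_of_dense {R R' : Type u} [CommRing R] [CommRing R'] [Algebra R R'] [Algebra R T]
    [Algebra R' T] [IsScalarTower R R' T] [Algebra T S] [Algebra R' S] [IsScalarTower R' T S]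
    [Algebra R' A] [Algebra A S] [IsScalarTower R' A S] [IsLocalRing A]
    {P : Ideal R} {P' : Ideal R'} [P'.IsPrime] [IsLocalization.AtPrime A P']
    (hP : P ≤ P'.comap (algebraMap R R')) {t : T} {r' : R'} {s : R}
    (hs : algebraMap R R' s ∈ P'.primeCompl)
    (h : algebraMap R T s * t - algebraMap R' T r' ∈ P.map (algebraMap R T)) :
    ∃ x : A, algebraMap T S t - algebraMap A S x ∈ (maximalIdeal A).map (algebraMap A S) := by
  refine ⟨IsLocalization.mk' _ r' (⟨_, hs⟩ : P'.primeCompl), ?_⟩
  have hu : IsUnit (algebraMap A S (algebraMap R' A (algebraMap R R' s))) :=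
    (IsLocalization.map_units A (⟨_, hs⟩ : P'.primeCompl)).map _
  rw [← IsScalarTower.algebraMap_apply R' A S] at hu
  rw [← Ideal.unit_mul_mem_iff_mem _ hu, mul_sub]
  have key : algebraMap R' S (algebraMap R R' s) *
      algebraMap A S (IsLocalization.mk' A r' (⟨_, hs⟩ : P'.primeCompl)) =
      algebraMap T S (algebraMap R' T r') := by
    rw [IsScalarTower.algebraMap_apply R' A S, ← map_mul, IsLocalization.mk'_spec'_mk,
      ← IsScalarTower.algebraMap_apply R' A S, IsScalarTower.algebraMap_apply R' T S]
  rw [key, IsScalarTower.algebraMap_apply R' T S, ← IsScalarTower.algebraMap_apply R R' T,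
    ← map_mul, ← map_sub]
  have h' := Ideal.mem_map_of_mem (algebraMap T S) h
  refine (?_ : Ideal.map (algebraMap T S) (P.map (algebraMap R T)) ≤ _) h'
  rw [IsScalarTower.algebraMap_eq R R' T, ← Ideal.map_map, Ideal.map_map,
    ← IsScalarTower.algebraMap_eq, IsScalarTower.algebraMap_eq R' A S, ← Ideal.map_map,
    ← IsLocalization.AtPrime.map_eq_maximalIdeal P' A]
  exact Ideal.map_mono (Ideal.map_mono (Ideal.map_le_iff_le_comap.2 hP))

variable [IsLocalRing A] [IsLocalRing S] [Algebra A S] [IsLocalHom (algebraMap A S)]
  [Algebra T S]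

theorem of_approx (n : Ideal T) [n.IsPrime] [IsLocalization.AtPrime S n]
    (hapx : ∀ t : T, ∃ x : A, algebraMap T S t - algebraMap A S x ∈ (maximalIdeal A).map (algebraMap A S)) :
    (maximalIdeal A).map (algebraMap A S) = maximalIdeal S ∧
      Function.Bijective (ResidueField.map (algebraMap A S)) := by
  have hm : Ideal.map (algebraMap A S) (maximalIdeal A) = maximalIdeal S := by
    refine le_antisymm (IsLocalRing.map_maximalIdeal_le _) ?_
    rw [← IsLocalization.AtPrime.map_eq_maximalIdeal n S, Ideal.map_le_iff_le_comap]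
    intro t ht
    obtain ⟨x, hx⟩ := hapx t
    have hx' : x ∈ maximalIdeal A := fun hu => by
      have h1 : algebraMap T S t ∈ maximalIdeal S := by
        rw [← IsLocalization.AtPrime.map_eq_maximalIdeal n S]
        exact Ideal.mem_map_of_mem _ ht
      have h2 := sub_mem h1 (IsLocalRing.map_maximalIdeal_le (algebraMap A S) hx)
      rw [sub_sub_cancel] at h2
      exact h2 (hu.map _)
    simpa using Ideal.add_mem _ hx (Ideal.mem_map_of_mem _ hx')
  refine ⟨hm, RingHom.injective _, fun z => ?_⟩
  obtain ⟨z, rfl⟩ := residue_surjective z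
  obtain ⟨t, s, rfl⟩ := IsLocalization.exists_mk'_eq n.primeCompl z
  obtain ⟨x, hx⟩ := hapx t
  obtain ⟨y, hy⟩ := hapx s
  rw [hm, ← residue_eq_zero_iff, map_sub, sub_eq_zero] at hx hy
  have hspec := congrArg (residue S) (IsLocalization.mk'_spec S t s)
  rw [map_mul, hx, hy, ← ResidueField.map_residue, ← ResidueField.map_residue] at hspec
  refine ⟨residue _ x / residue _ y, ?_⟩
  rw [map_div₀, div_eq_iff, hspec]
  intro h
  rw [ResidueField.map_residue, ← hy, residue_eq_zero_iff] at h
  exact h (IsLocalization.map_units S s)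

theorem complete_localization {C : Type u} [CommRing C] [IsLocalRing C] [IsNoetherianRing C]
    [IsAdicComplete (maximalIdeal C) C] [Algebra C T] [Module.Finite C T] (n : Ideal T) [n.IsMaximal]
    [IsLocalization.AtPrime S n] [Algebra C S] [IsScalarTower C T S] :
    IsNoetherianRing S ∧ IsAdicComplete (maximalIdeal S) S := by
  haveI : HenselianLocalRing C := henselian C
  haveI : IsNoetherianRing T := IsNoetherianRing.of_finite C T
  haveI : IsNoetherianRing S := IsLocalization.isNoetherianRing n.primeCompl _ inferInstance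
  haveI : Module.Finite C S := by
    refine Module.Finite.of_surjective (IsScalarTower.toAlgHom C T S).toLinearMap fun z => ?_
    classical
    let e := IsLocalization.algEquiv n.primeCompl (Localization.AtPrime n) S
    obtain ⟨t, ht⟩ := (Groth.Agent.Lib.Henselian.Finite.toPiLocalization_bijective (A := C) (B := T)).2
      (Function.update 0 (⟨n, inferInstance⟩ : MaximalSpectrum T) (e.symm z))
    refine ⟨t, ?_⟩
    have := congrFun ht ⟨n, inferInstance⟩
    rw [MaximalSpectrum.toPiLocalization_apply_apply, Function.update_self] at this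
    exact (e.commutes t).symm.trans ((congrArg e this).trans (e.apply_symm_apply z))
  haveI : IsAdicComplete (maximalIdeal C) S := Groth.Agent.Lib.Adic.Complete.isAdicComplete_of_finite
  haveI : IsAdicComplete ((maximalIdeal C).map (algebraMap C S)) S :=
    (IsAdicComplete.map_algebraMap_iff _ _).mpr inferInstance
  have hle : (maximalIdeal C).map (algebraMap C S) ≤ maximalIdeal S :=
    (IsAdicComplete.le_jacobson_bot _).trans
      (sInf_le ⟨bot_le, maximalIdeal.isMaximal S⟩)
  have hrad : maximalIdeal S ≤ ((maximalIdeal C).map (algebraMap C S)).radical := by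
    rw [Ideal.radical_eq_sInf]
    refine le_sInf fun q ⟨hq, hqp⟩ => ?_
    haveI := hqp
    have hqC : q.comap (algebraMap C S) = maximalIdeal C :=
      ((maximalIdeal.isMaximal C).eq_of_le (Ideal.IsPrime.comap _).ne_top
        (Ideal.map_le_iff_le_comap.1 hq)).symm
    haveI : q.IsMaximal := Ideal.isMaximal_of_isIntegral_of_isMaximal_comap (R := C) q
      (hqC ▸ maximalIdeal.isMaximal C)
    exact (IsLocalRing.eq_maximalIdeal ‹q.IsMaximal›).ge
  obtain ⟨N, hN⟩ := Ideal.exists_pow_le_of_le_radical_of_fg hrad (IsNoetherian.noetherian _)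
  exact ⟨inferInstance, Groth.Agent.Lib.Adic.Transfer.isAdicComplete_of_le hle hN⟩

theorem equiv_completion [IsNoetherianRing A] [IsNoetherianRing S] [IsAdicComplete (maximalIdeal S) S]
    [Module.Flat A S] (hm : (maximalIdeal A).map (algebraMap A S) = maximalIdeal S)
    (hk : Function.Bijective (ResidueField.map (algebraMap A S))) :
    ∃ e : EGA4.Cpl A ≃+* S, ∀ a : A, e (algebraMap A (EGA4.Cpl A) a) = algebraMap A S a := by
  obtain ⟨ψ, hψ⟩ := Unram.SmoothCompletion.exists_map (A := A) (B := S)
  have hbij := Groth.Agent.S9232.result A S hm hk ψ hψ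
  refine ⟨(RingEquiv.ofBijective ψ hbij).trans (AdicCompletion.ofAlgEquiv (maximalIdeal S)).symm.toRingEquiv,
    fun a => ?_⟩
  have h := RingHom.congr_fun hψ a
  simp only [RingHom.comp_apply] at h
  change (AdicCompletion.ofAlgEquiv (maximalIdeal S)).symm (ψ (algebraMap A _ a)) = _
  rw [h, AlgEquiv.symm_apply_eq]
  rfl

theorem isRegularRing_tensor_localization {R' T K L L' : Type u} [CommRing R'] [CommRing T] [CommRing K]
    [CommRing L] [CommRing L'] [Algebra R' L'] [Algebra R' T] [Algebra R' K] [Algebra T L] [Algebra R' L]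
    [IsScalarTower R' T L] (M : Submonoid T) [IsLocalization M L] (h : IsRegularRing (K ⊗[R'] T))
    (e : L' ≃ₐ[R'] L) : IsRegularRing (K ⊗[R'] L') := by
  haveI : IsRegularRing (T ⊗[R'] K) := IsRegularRing.of_ringEquiv (R := K ⊗[R'] T)
    (Algebra.TensorProduct.comm R' K T).toRingEquiv
  haveI : IsLocalization (Algebra.algebraMapSubmonoid (T ⊗[R'] K) M)
      ((T ⊗[R'] K) ⊗[T] L) := IsLocalization.tensor _ _
  haveI : IsRegularRing ((T ⊗[R'] K) ⊗[T] L) := by
    haveI : IsNoetherianRing ((T ⊗[R'] K) ⊗[T] L) :=
      IsLocalization.isNoetherianRing (Algebra.algebraMapSubmonoid (T ⊗[R'] K) M) _ inferInstance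
    refine isRegularRing_iff.2 fun Q _ => ?_
    exact (Excellent.FormalFibre.forall_localization_iff
      (P := fun R [CommRing R] => IsRegularLocalRing R)
      (Algebra.algebraMapSubmonoid (T ⊗[R'] K) M)
      (fun _ _ _ _ e _ => IsRegularLocalRing.of_ringEquiv e)).2
      (fun q _ _ => IsRegularRing.isRegularLocalRing_localization q) Q
  exact IsRegularRing.of_ringEquiv
    ((Algebra.TensorProduct.comm T (T ⊗[R'] K) L).toRingEquiv.trans
      ((Algebra.TensorProduct.cancelBaseChange R' T L L K).toRingEquiv.trans
        ((Algebra.TensorProduct.comm R' L K).toRingEquiv.trans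
          (Algebra.TensorProduct.congr (AlgEquiv.refl : K ≃ₐ[R'] K) e.symm).toRingEquiv)))

theorem equiv_of_dense {R R' C : Type u} [CommRing R] [CommRing R'] [CommRing C] [IsLocalRing C]
    [IsNoetherianRing C] [IsAdicComplete (maximalIdeal C) C] [IsNoetherianRing R'] [Algebra R R']
    [Algebra R T] [Algebra R' T] [IsScalarTower R R' T] [Algebra C T] [Module.Finite C T]
    [Module.Flat R' T] (P : Ideal R) (P' : Ideal R') [P'.IsPrime]
    (hP : P'.comap (algebraMap R R') = P) (n : Ideal T) [n.IsMaximal]
    (hnP : n.comap (algebraMap R' T) = P')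
    (hd : ∀ t : T, ∃ (r' : R') (s : R), s ∉ P ∧
      algebraMap R T s * t - algebraMap R' T r' ∈ P.map (algebraMap R T)) :
    Nonempty (EGA4.Cpl (Localization.AtPrime P') ≃ₐ[R'] Localization.AtPrime n) := by
  haveI : IsNoetherianRing (Localization.AtPrime P') :=
    IsLocalization.isNoetherianRing P'.primeCompl _ inferInstance
  let φ := Localization.localRingHom P' n (algebraMap R' T) hnP.symm
  letI : Algebra (Localization.AtPrime P') (Localization.AtPrime n) := φ.toAlgebra
  haveI : IsScalarTower R' (Localization.AtPrime P') (Localization.AtPrime n) := .of_algebraMap_eq fun a =>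
    ((Localization.localRingHom_to_map P' n (algebraMap R' T) hnP.symm a).trans
      (IsScalarTower.algebraMap_apply R' T (Localization.AtPrime n) a).symm).symm
  haveI : IsLocalHom (algebraMap (Localization.AtPrime P') (Localization.AtPrime n)) :=
    Localization.isLocalHom_localRingHom _ _ _ hnP.symm
  haveI : Module.Flat R' (Localization.AtPrime n) := Module.Flat.trans R' T _
  haveI : Module.Flat (Localization.AtPrime P') (Localization.AtPrime n) :=
    (Module.flat_iff_of_isLocalization (Localization.AtPrime P') P'.primeCompl _).2 ‹_›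
  obtain ⟨hm, hk⟩ := of_approx (T := T) (A := Localization.AtPrime P') (S := Localization.AtPrime n) n
    fun t => by
      obtain ⟨r', s, hs, hts⟩ := hd t
      exact approx_of_dense (R := R) (P' := P') hP.ge (fun h => hs (hP.le h)) hts
  letI : Algebra C (Localization.AtPrime n) := inferInstance
  obtain ⟨h1, h2⟩ := complete_localization (C := C) (T := T) (S := Localization.AtPrime n) n
  haveI := h1
  haveI := h2
  obtain ⟨e, he⟩ := equiv_completion hm hk
  refine ⟨AlgEquiv.ofRingEquiv (f := e) fun a => ?_⟩
  rw [IsScalarTower.algebraMap_apply R' (Localization.AtPrime P') (EGA4.Cpl (Localization.AtPrime P')), he,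
    ← IsScalarTower.algebraMap_apply]

end Generic

variable (R R' : Type u) [CommRing R] [IsNoetherianRing R] [CommRing R'] [Algebra R R']
  [Module.Finite R R'] (P : Ideal R) [P.IsPrime]

/-- Elements of the base change are approximated by fractions of the algebra. -/
theorem dense (t : R' ⊗[R] EGA4.Cpl (Localization.AtPrime P)) :
    ∃ (r' : R') (s : R), s ∉ P ∧
      algebraMap R (R' ⊗[R] EGA4.Cpl (Localization.AtPrime P)) s * t -
        algebraMap R' (R' ⊗[R] EGA4.Cpl (Localization.AtPrime P)) r' ∈
        P.map (algebraMap R (R' ⊗[R] EGA4.Cpl (Localization.AtPrime P))) := by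
  let C := EGA4.Cpl (Localization.AtPrime P)
  induction t using TensorProduct.induction_on with
  | zero => exact ⟨0, 1, P.primeCompl.one_mem, by simp⟩
  | tmul b c =>
    obtain ⟨z, hz⟩ := (AdicCompletion.residueField_map_bijective (Localization.AtPrime P)).2 (residue C c)
    obtain ⟨z, rfl⟩ := residue_surjective z
    rw [ResidueField.map_residue] at hz
    obtain ⟨a, s, rfl⟩ := IsLocalization.exists_mk'_eq P.primeCompl z
    refine ⟨a • b, s, s.2, ?_⟩
    have hmC : maximalIdeal C = P.map (algebraMap R C) := by
      rw [AdicCompletion.maximalIdeal_eq_map, IsScalarTower.algebraMap_eq R (Localization.AtPrime P) C,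
        ← Ideal.map_map]
      exact congrArg (Ideal.map _) Localization.AtPrime.map_eq_maximalIdeal.symm
    have hc : algebraMap R C s * c - algebraMap R C a ∈ P.map (algebraMap R C) := by
      have h1 : c - algebraMap _ C (IsLocalization.mk' (Localization.AtPrime P) a s) ∈ maximalIdeal C := by
        rw [← residue_eq_zero_iff, map_sub, hz, sub_self]
      have h2 : algebraMap R C a =
          algebraMap R C s * algebraMap _ C (IsLocalization.mk' (Localization.AtPrime P) a s) := by
        rw [IsScalarTower.algebraMap_apply R (Localization.AtPrime P) C a,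
          IsScalarTower.algebraMap_apply R (Localization.AtPrime P) C s, ← map_mul,
          IsLocalization.mk'_spec']
      rw [h2, ← mul_sub]
      rw [hmC] at h1
      exact Ideal.mul_mem_left _ _ h1
    have key : algebraMap R (R' ⊗[R] C) s * b ⊗ₜ[R] c - algebraMap R' (R' ⊗[R] C) (a • b) =
        algebraMap R' (R' ⊗[R] C) b *
          (Algebra.TensorProduct.includeRight : C →ₐ[R] R' ⊗[R] C)
            (algebraMap R C s * c - algebraMap R C a) := by
      change _ - (a • b) ⊗ₜ[R] (1 : C) =
        (b ⊗ₜ[R] (1 : C)) * ((1 : R') ⊗ₜ[R] (algebraMap R C s * c - algebraMap R C a))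
      rw [Algebra.TensorProduct.tmul_mul_tmul, mul_one, one_mul, TensorProduct.tmul_sub,
        Algebra.TensorProduct.algebraMap_apply', Algebra.TensorProduct.tmul_mul_tmul, one_mul,
        Algebra.algebraMap_eq_smul_one (A := C) a, TensorProduct.tmul_smul, TensorProduct.smul_tmul']
    rw [key]
    refine Ideal.mul_mem_left _ _ ?_
    have := Ideal.mem_map_of_mem (Algebra.TensorProduct.includeRight : C →ₐ[R] R' ⊗[R] C).toRingHom hc
    rwa [Ideal.map_map, AlgHom.toRingHom_eq_coe, AlgHom.comp_algebraMap] at this
  | add t u ht hu =>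
    obtain ⟨a, s, hs, ha⟩ := ht
    obtain ⟨b, s', hs', hb⟩ := hu
    refine ⟨s' • a + s • b, s * s', P.primeCompl.mul_mem hs hs', ?_⟩
    convert Ideal.add_mem _ (Ideal.mul_mem_left _ (algebraMap R _ s') ha)
      (Ideal.mul_mem_left _ (algebraMap R _ s) hb) using 1
    simp only [map_mul, map_add, Algebra.smul_def,
      ← IsScalarTower.algebraMap_apply R R' (R' ⊗[R] EGA4.Cpl (Localization.AtPrime P))]
    ring

variable (P' : Ideal R') [P'.IsPrime]

theorem exists_prime (hP : P'.comap (algebraMap R R') = P) :
    ∃ n : Ideal (R' ⊗[R] EGA4.Cpl (Localization.AtPrime P)),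
      n.IsMaximal ∧ n.comap (algebraMap R' _) = P' := by
  let RP := Localization.AtPrime P
  let C := EGA4.Cpl RP
  let T := R' ⊗[R] C
  haveI : IsNoetherianRing R' := IsNoetherianRing.of_finite R R'
  haveI : IsNoetherianRing RP := IsLocalization.isNoetherianRing P.primeCompl _ inferInstance
  haveI : IsNoetherianRing (Localization.AtPrime P') :=
    IsLocalization.isNoetherianRing P'.primeCompl _ inferInstance
  haveI : HenselianLocalRing C := henselian C
  let u : C →ₐ[R] T := Algebra.TensorProduct.includeRight
  letI : Algebra C T := u.toRingHom.toAlgebra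
  haveI : IsScalarTower R C T := IsScalarTower.of_algebraMap_eq fun r => (u.commutes r).symm
  haveI : Module.Finite C T := by
    let φ : C ⊗[R] R' →ₐ[C] T := Algebra.TensorProduct.lift (Algebra.ofId C T)
      (Algebra.TensorProduct.includeLeft : R' →ₐ[R] T) fun _ _ => Commute.all _ _
    refine Module.Finite.of_surjective φ.toLinearMap fun z => ?_
    induction z using TensorProduct.induction_on with
    | zero => exact ⟨0, map_zero _⟩
    | add x y hx hy =>
      obtain ⟨a, rfl⟩ := hx
      obtain ⟨b, rfl⟩ := hy
      exact ⟨a + b, map_add _ _ _⟩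
    | tmul b c =>
      refine ⟨c ⊗ₜ[R] b, ?_⟩
      change u c * (b ⊗ₜ[R] (1 : C)) = _
      change ((1 : R') ⊗ₜ[R] c) * (b ⊗ₜ[R] (1 : C)) = _
      rw [Algebra.TensorProduct.tmul_mul_tmul, one_mul, mul_one]
  haveI : IsNoetherianRing T := IsNoetherianRing.of_finite C T
  -- a prime over `P'`
  let f : RP →+* P'.ResidueField := IsLocalization.lift (M := P.primeCompl)
    (g := algebraMap R P'.ResidueField) fun s => Ne.isUnit fun h => s.2 <| by
      have h' : algebraMap R R' s ∈ P' := by
        rw [← Ideal.algebraMap_residueField_eq_zero, ← IsScalarTower.algebraMap_apply]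
        exact h
      exact hP.le h'
  haveI : IsLocalHom f := ⟨fun x hx => by
    obtain ⟨a, s, rfl⟩ := IsLocalization.exists_mk'_eq P.primeCompl x
    rw [IsLocalization.AtPrime.isUnit_mk'_iff]
    intro ha
    have h0 : algebraMap R P'.ResidueField a = 0 := by
      rw [IsScalarTower.algebraMap_apply R R' P'.ResidueField, Ideal.algebraMap_residueField_eq_zero]
      exact hP.ge ha
    refine hx.ne_zero ?_
    rw [IsLocalization.lift_mk'_spec, h0, mul_zero]⟩
  let ρ : RP →+* ResidueField C := (ResidueField.map (algebraMap RP C)).comp (residue RP)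
  let eC : ResidueField RP ≃+* ResidueField C :=
    RingEquiv.ofBijective _ (AdicCompletion.residueField_map_bijective RP)
  let g : C →+* P'.ResidueField :=
    ((IsLocalRing.ResidueField.lift f).comp eC.symm.toRingHom).comp (residue C)
  have hgR : ∀ r : R, g (algebraMap R C r) = algebraMap R P'.ResidueField r := fun r => by
    have h1 : residue C (algebraMap R C r) = eC (residue RP (algebraMap R RP r)) := by
      rw [IsScalarTower.algebraMap_apply R RP C r]
      exact (ResidueField.map_residue (algebraMap RP C) _).symm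
    simp only [g, RingHom.comp_apply, h1, RingEquiv.toRingHom_eq_coe, RingHom.coe_coe,
      eC.symm_apply_apply]
    rw [IsLocalRing.ResidueField.lift_residue_apply, IsLocalization.lift_eq]
  let χ : T →ₐ[R] P'.ResidueField := Algebra.TensorProduct.lift
    (IsScalarTower.toAlgHom R R' P'.ResidueField) ⟨g, hgR⟩ fun _ _ => Commute.all _ _
  let n := RingHom.ker χ
  haveI hn : n.IsPrime := RingHom.ker_isPrime _
  have hnP : n.comap (algebraMap R' T) = P' := by
    ext a
    rw [Ideal.mem_comap, RingHom.mem_ker, ← Ideal.algebraMap_residueField_eq_zero]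
    simp [χ, T, Algebra.TensorProduct.algebraMap_apply]
  haveI : n.IsMaximal := by
    haveI : (n.comap (algebraMap C T)).IsMaximal := by
      have : n.comap (algebraMap C T) = maximalIdeal C := by
        refine le_antisymm (IsLocalRing.le_maximalIdeal (Ideal.IsPrime.comap _).ne_top) fun c hc => ?_
        rw [Ideal.mem_comap, RingHom.mem_ker]
        change χ ((1 : R') ⊗ₜ[R] c) = 0
        rw [Algebra.TensorProduct.lift_tmul, map_one, one_mul]
        change IsLocalRing.ResidueField.lift f (eC.symm (residue C c)) = 0
        rw [(residue_eq_zero_iff _).2 hc, map_zero, map_zero]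
      rw [this]; exact maximalIdeal.isMaximal C
    exact Ideal.isMaximal_of_isIntegral_of_isMaximal_comap (R := C) n inferInstance
  exact ⟨n, inferInstance, hnP⟩

theorem component_equiv (hP : P'.comap (algebraMap R R') = P)
    (n : Ideal (R' ⊗[R] EGA4.Cpl (Localization.AtPrime P))) [n.IsMaximal]
    (hnP : n.comap (algebraMap R' _) = P') :
    Nonempty (EGA4.Cpl (Localization.AtPrime P') ≃ₐ[R'] Localization.AtPrime n) := by
  let RP := Localization.AtPrime P
  let C := EGA4.Cpl RP
  let T := R' ⊗[R] C
  haveI : IsNoetherianRing R' := IsNoetherianRing.of_finite R R'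
  haveI : IsNoetherianRing RP := IsLocalization.isNoetherianRing P.primeCompl _ inferInstance
  haveI : IsNoetherianRing (Localization.AtPrime P') :=
    IsLocalization.isNoetherianRing P'.primeCompl _ inferInstance
  haveI : HenselianLocalRing C := henselian C
  let u : C →ₐ[R] T := Algebra.TensorProduct.includeRight
  letI : Algebra C T := u.toRingHom.toAlgebra
  haveI : IsScalarTower R C T := IsScalarTower.of_algebraMap_eq fun r => (u.commutes r).symm
  haveI : Module.Finite C T := by
    let φ : C ⊗[R] R' →ₐ[C] T := Algebra.TensorProduct.lift (Algebra.ofId C T)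
      (Algebra.TensorProduct.includeLeft : R' →ₐ[R] T) fun _ _ => Commute.all _ _
    refine Module.Finite.of_surjective φ.toLinearMap fun z => ?_
    induction z using TensorProduct.induction_on with
    | zero => exact ⟨0, map_zero _⟩
    | add x y hx hy =>
      obtain ⟨a, rfl⟩ := hx
      obtain ⟨b, rfl⟩ := hy
      exact ⟨a + b, map_add _ _ _⟩
    | tmul b c =>
      refine ⟨c ⊗ₜ[R] b, ?_⟩
      change u c * (b ⊗ₜ[R] (1 : C)) = _
      change ((1 : R') ⊗ₜ[R] c) * (b ⊗ₜ[R] (1 : C)) = _
      rw [Algebra.TensorProduct.tmul_mul_tmul, one_mul, mul_one]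
  haveI : IsNoetherianRing T := IsNoetherianRing.of_finite C T
  haveI : Module.Flat R C := Module.Flat.trans R RP C
  exact equiv_of_dense (C := C) (T := T) P P' hP n hnP (dense R R' P)

/-- The completion of a finite algebra at a prime is a local ring of the base change. -/
theorem exists_component (hP : P'.comap (algebraMap R R') = P) :
    ∃ (n : Ideal (R' ⊗[R] EGA4.Cpl (Localization.AtPrime P))) (_ : n.IsPrime),
      Nonempty (EGA4.Cpl (Localization.AtPrime P') ≃ₐ[R'] Localization.AtPrime n) := by
  obtain ⟨n, hn, hnP⟩ := exists_prime R R' P P' hP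
  exact ⟨n, inferInstance, component_equiv R R' P P' hP n hnP⟩

/-- Regularity of the formal fibre at a component. -/
theorem isRegularRing_component (hP : P'.comap (algebraMap R R') = P) (K : Type u) [Field K]
    [Algebra R' K] [Algebra R K] [IsScalarTower R R' K]
    (h : IsRegularRing (K ⊗[R] EGA4.Cpl (Localization.AtPrime P))) :
    IsRegularRing (K ⊗[R'] EGA4.Cpl (Localization.AtPrime P')) := by
  obtain ⟨n, hn, ⟨e⟩⟩ := exists_component R R' P P' hP
  let C := EGA4.Cpl (Localization.AtPrime P)
  let T := R' ⊗[R] C
  haveI : IsRegularRing (K ⊗[R'] T) := IsRegularRing.of_ringEquiv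
    (Algebra.TensorProduct.cancelBaseChange R R' K K C).symm.toRingEquiv
  exact isRegularRing_tensor_localization (T := T) (L := Localization.AtPrime n) n.primeCompl ‹_› e

end Groth.Agent.Lib.GRing.Component
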