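import Groth.Agent.Lib.GRing.Criterion
import Mathlib.RingTheory.EssentialFiniteness

/-!
# G-rings through the generic formal fibres of finite domains
-/

set_option autoImplicit false
set_option linter.style.haveILetI false

universe u

open IsLocalRing
open scoped TensorProduct

namespace Groth.Agent.Lib.GRing.Domains

open Groth.Agent.Lib.Excellent.FormalFibre

/-- Regularity of a base change to a field is local at the maximal ideals. -/
theorem regular_of_maximal (R' T K : Type u) [CommRing R'] [CommRing T] [IsNoetherianRing T] [Field K]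
    [Algebra R' T] [Algebra R' K] [Algebra.EssFiniteType R' K]
    (h : ∀ (n : Ideal T) [n.IsMaximal], IsRegularRing (K ⊗[R'] Localization.AtPrime n)) :
    IsRegularRing (K ⊗[R'] T) := by
  haveI : IsNoetherianRing (T ⊗[R'] K) := Algebra.EssFiniteType.isNoetherianRing T _
  haveI : IsRegularRing (T ⊗[R'] K) := by
    refine isRegularRing_iff.2 fun Q _ => ?_
    let QT := Q.comap (algebraMap T (T ⊗[R'] K))
    haveI : QT.IsPrime := Ideal.IsPrime.comap _
    obtain ⟨n, hn, hQn⟩ := Ideal.exists_le_maximal QT ‹QT.IsPrime›.ne_top
    let L := Localization.AtPrime n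
    haveI := h n
    haveI : IsRegularRing (L ⊗[R'] K) := IsRegularRing.of_ringEquiv
      (R := K ⊗[R'] L) (Algebra.TensorProduct.comm R' K L).toRingEquiv
    haveI : IsLocalization (Algebra.algebraMapSubmonoid (T ⊗[R'] K) n.primeCompl)
        ((T ⊗[R'] K) ⊗[T] L) := IsLocalization.tensor _ _
    haveI : IsRegularRing ((T ⊗[R'] K) ⊗[T] L) := IsRegularRing.of_ringEquiv
      (R := L ⊗[R'] K)
      ((Algebra.TensorProduct.cancelBaseChange R' T L L K).symm.toRingEquiv.trans
        (Algebra.TensorProduct.comm T L (T ⊗[R'] K)).toRingEquiv)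
    refine (Excellent.FormalFibre.forall_localization_iff
      (P := fun R [CommRing R] => IsRegularLocalRing R)
      (Algebra.algebraMapSubmonoid (T ⊗[R'] K) n.primeCompl)
      (fun R S _ _ e h => by haveI : IsRegularLocalRing R := h
                             exact IsRegularLocalRing.of_ringEquiv e)).1
      (fun q _ => IsRegularRing.isRegularLocalRing_localization
        (R := (T ⊗[R'] K) ⊗[T] L) q) Q ?_
    rw [Set.disjoint_left]
    rintro _ ⟨t, ht, rfl⟩ hq
    exact ht (hQn hq)
  exact IsRegularRing.of_ringEquiv (R := T ⊗[R'] K) (Algebra.TensorProduct.comm R' T K).toRingEquiv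

/-- Formal fibres along a finite map are covered by those of the primes above. -/
theorem regular_of_components (R R' : Type u) [CommRing R] [IsNoetherianRing R] [CommRing R']
    [Algebra R R'] [Module.Finite R R'] (P : Ideal R) [P.IsPrime]
    (K : Type u) [Field K] [Algebra R' K] [Algebra R K] [IsScalarTower R R' K]
    [Algebra.EssFiniteType R' K]
    (h : ∀ (P' : Ideal R') [P'.IsPrime], P'.comap (algebraMap R R') = P →
      IsRegularRing (K ⊗[R'] EGA4.Cpl (Localization.AtPrime P'))) :
    IsRegularRing (K ⊗[R] EGA4.Cpl (Localization.AtPrime P)) := by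
  let RP := Localization.AtPrime P
  let C := EGA4.Cpl RP
  let T := R' ⊗[R] C
  haveI : IsNoetherianRing RP := IsLocalization.isNoetherianRing P.primeCompl _ inferInstance
  letI : Algebra C T := Algebra.TensorProduct.rightAlgebra
  haveI : Module.Finite C T := Module.Finite.equiv
    (Algebra.TensorProduct.commRight R C R').toLinearEquiv
  haveI : IsNoetherianRing T := IsNoetherianRing.of_finite C T
  haveI : IsRegularRing (K ⊗[R'] T) := regular_of_maximal R' T K fun n _ => by
    let P' := n.comap (algebraMap R' T)
    haveI : P'.IsPrime := Ideal.IsPrime.comap _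
    have hP' : P'.comap (algebraMap R R') = P := by
      haveI : (n.comap (algebraMap C T)).IsMaximal :=
        Ideal.isMaximal_comap_of_isIntegral_of_isMaximal (R := C) n
      have hnC : n.comap (algebraMap C T) = maximalIdeal C := IsLocalRing.eq_maximalIdeal inferInstance
      rw [Ideal.comap_comap, ← IsScalarTower.algebraMap_eq R R' T, IsScalarTower.algebraMap_eq R C T,
        ← Ideal.comap_comap, hnC, IsScalarTower.algebraMap_eq R RP C, ← Ideal.comap_comap,
        IsLocalRing.maximalIdeal_comap (algebraMap RP C)]
      exact IsLocalization.AtPrime.under_maximalIdeal RP P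
    obtain ⟨e⟩ := Component.component_equiv R R' P P' hP' n rfl
    haveI := h P' hP'
    exact IsRegularRing.of_ringEquiv
      (Algebra.TensorProduct.congr (AlgEquiv.refl : K ≃ₐ[R'] K) e).toRingEquiv
  exact IsRegularRing.of_ringEquiv (Algebra.TensorProduct.cancelBaseChange R R' K K C).toRingEquiv

/-- A ring is a G-ring if its finite domains have regular generic formal fibres. -/
theorem isGRing_of_domains (R : Type u) [CommRing R] [IsNoetherianRing R]
    (h : ∀ (B : Type u) [CommRing B] [IsDomain B] [Algebra R B] [Module.Finite R B]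
      (P : Ideal B) [P.IsPrime] (K : Type u) [Field K] [Algebra B K] [IsFractionRing B K],
      IsRegularRing (K ⊗[B] EGA4.Cpl (Localization.AtPrime P))) :
    CAlg.IsGRing R := by
  refine ⟨inferInstance, fun P _ => ?_⟩
  let A := Localization.AtPrime P
  haveI : IsNoetherianRing A := IsLocalization.isNoetherianRing P.primeCompl A inferInstance
  refine ⟨inferInstance, fun p _ =>
    ⟨Groth.Agent.Lib.Excellent.FibreNoetherian.isNoetherianRing_fibre _ p, ?_⟩⟩
  refine (forall_fibre_iff (P := fun R [CommRing R] => IsRegularRing R)
    Groth.Agent.Lib.Excellent.Transport.isoInvariant_isRegularRing (EGA4.Cpl A)).2 (fun K _ _ hK => ?_) p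
  letI : Algebra R K := ((algebraMap A K).comp (algebraMap R A)).toAlgebra
  haveI : IsScalarTower R A K := .of_algebraMap_eq' rfl
  obtain ⟨B, hB, hfr⟩ :=
    Groth.Agent.Lib.Excellent.LocalizedHom.isFinPoint_of_isLocalization P.primeCompl K hK
  haveI : TensorProduct.CompatibleSMul R A K (EGA4.Cpl A) :=
    IsLocalization.tensorProduct_compatibleSMul P.primeCompl A K (EGA4.Cpl A)
  suffices IsRegularRing (K ⊗[R] EGA4.Cpl A) from IsRegularRing.of_ringEquiv
    (Algebra.TensorProduct.equivOfCompatibleSMul R A A K (EGA4.Cpl A)).symm.toRingEquiv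
  haveI : Algebra.EssFiniteType B K := Algebra.EssFiniteType.of_isLocalization K (nonZeroDivisors B)
  exact regular_of_components R B P K fun P' _ _ => h B P' K

end Groth.Agent.Lib.GRing.Domains
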