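import Groth.Agent.Lib.GRing.Detect
import Groth.Agent.Lib.GRing.Domains
import Groth.Agent.Lib.Cohen.CompleteNagata
import Groth.Agent.Lib.Cohen.PSDerivation
import Groth.Agent.Lib.Adic.Complete
import Mathlib.RingTheory.RegularLocalRing.Polynomial

/-!
# Algebras of finite type over complete Noetherian local rings are G-rings
-/

set_option autoImplicit false
set_option linter.style.haveILetI false

universe u

open IsLocalRing
open scoped TensorProduct

namespace Groth.Agent.Lib.GRing.CompleteFT

/-- Generic formal fibres of domains of finite type over a regular domain with small subrings of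
constants. -/
theorem core (S : Type u) [CommRing S] [IsDomain S] [IsRegularRing S]
    (hfam : ∀ p : ℕ, p.Prime → CharP S p → Detect.Family p S)
    (B : Type u) [CommRing B] [IsDomain B] [Algebra S B] [Algebra.FiniteType S B] [FaithfulSMul S B]
    (P : Ideal B) [P.IsPrime] (K : Type u) [Field K] [Algebra B K] [IsFractionRing B K] :
    IsRegularRing (K ⊗[B] EGA4.Cpl (Localization.AtPrime P)) := by
  obtain ⟨n, φ0, hφ0⟩ := Algebra.FiniteType.iff_quotient_mvPolynomial''.1 ‹Algebra.FiniteType S B›
  let e0 := MvPolynomial.renameEquiv S (Equiv.ulift.{u, 0} : ULift.{u} (Fin n) ≃ Fin n)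
  let φ := φ0.comp e0.toAlgHom
  have hφ : Function.Surjective φ := hφ0.comp e0.surjective
  let A := MvPolynomial (ULift.{u} (Fin n)) S
  letI : Algebra A B := φ.toRingHom.toAlgebra
  haveI : Module.Finite A B := Module.Finite.of_surjective (Algebra.linearMap A B) hφ
  let q := RingHom.ker (algebraMap A B)
  haveI : q.IsPrime := RingHom.ker_isPrime _
  have hq0 : q.comap (MvPolynomial.C : S →+* A) = ⊥ := by
    refine (Submodule.eq_bot_iff _).2 fun s hs => ?_
    have h1 : φ (MvPolynomial.C s) = 0 := hs
    rw [← MvPolynomial.algebraMap_eq, AlgHom.commutes] at h1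
    exact (map_eq_zero_iff _ (FaithfulSMul.algebraMap_injective S B)).1 h1
  letI : Algebra A K := ((algebraMap B K).comp (algebraMap A B)).toAlgebra
  haveI : IsScalarTower A B K := .of_algebraMap_eq' rfl
  let e : (A ⧸ q) ≃+* B := RingHom.quotientKerEquivOfSurjective hφ
  letI : Algebra (A ⧸ q) K := ((algebraMap B K).comp e.toRingHom).toAlgebra
  haveI : IsScalarTower A (A ⧸ q) K := IsScalarTower.of_algebraMap_eq (R := A) (S := A ⧸ q) (A := K) fun a => rfl
  haveI : IsFractionRing (A ⧸ q) K := by
    haveI : FaithfulSMul (A ⧸ q) K := (faithfulSMul_iff_algebraMap_injective _ _).2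
      ((IsFractionRing.injective B K).comp e.injective)
    refine IsFractionRing.of_field _ _ fun z => ?_
    obtain ⟨a, b, -, rfl⟩ := IsFractionRing.div_surjective B z
    exact ⟨e.symm a, e.symm b, by
      change _ = algebraMap B K (e (e.symm a)) / algebraMap B K (e (e.symm b))
      rw [e.apply_symm_apply, e.apply_symm_apply]⟩
  exact Component.isRegularRing_component A B (P.comap (algebraMap A B)) P rfl K
    (Jacobian.formalFibre_regular A q (Detect.detects S hfam q hq0) _ K)

/-- Algebras of finite type over complete Noetherian local rings are G-rings. -/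
theorem isGRing (R₀ : Type u) [CommRing R₀] [IsLocalRing R₀] [IsNoetherianRing R₀]
    [IsAdicComplete (maximalIdeal R₀) R₀] (R : Type u) [CommRing R] [Algebra R₀ R]
    [Algebra.FiniteType R₀ R] : CAlg.IsGRing R := by
  haveI : IsNoetherianRing R := Algebra.FiniteType.isNoetherianRing R₀ R
  refine Domains.isGRing_of_domains R fun B _ _ _ _ P _ K _ _ _ => ?_
  letI : Algebra R₀ B := ((algebraMap R B).comp (algebraMap R₀ R)).toAlgebra
  haveI : IsScalarTower R₀ R B := .of_algebraMap_eq' rfl
  haveI : Algebra.FiniteType R₀ B :=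
    Algebra.FiniteType.trans ‹Algebra.FiniteType R₀ R› (inferInstance : Algebra.FiniteType R B)
  let q := RingHom.ker (algebraMap R₀ B)
  haveI : q.IsPrime := RingHom.ker_isPrime _
  let R' := R₀ ⧸ q
  haveI : IsDomain R' := Ideal.Quotient.isDomain q
  haveI : IsLocalRing R' := IsLocalRing.of_surjective' _ Ideal.Quotient.mk_surjective
  haveI : IsAdicComplete (maximalIdeal R') R' := by
    have e : (maximalIdeal R₀).map (Ideal.Quotient.mk q) = maximalIdeal R' := by
      haveI : IsLocalHom (Ideal.Quotient.mk q) := IsLocalHom.of_surjective _ Ideal.Quotient.mk_surjective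
      rw [← IsLocalRing.maximalIdeal_comap (Ideal.Quotient.mk q),
        Ideal.map_comap_of_surjective _ Ideal.Quotient.mk_surjective]
    rw [← e]
    exact Groth.Agent.Lib.Adic.Complete.isAdicComplete_quotient q
  letI : Algebra R' B := (RingHom.kerLift (algebraMap R₀ B)).toAlgebra
  haveI : IsScalarTower R₀ R' B := .of_algebraMap_eq fun _ => rfl
  haveI : Algebra.FiniteType R' B := Algebra.FiniteType.of_restrictScalars_finiteType R₀ R' B
  obtain ⟨Λ, _, n, g, hΛ, hginj, hgfin, -⟩ :=
    Groth.Agent.Lib.Cohen.CompleteNagata.exists_finite_injective R'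
  let S := MvPowerSeries (Fin n) Λ
  letI : Algebra S R' := g.toAlgebra
  haveI : Module.Finite S R' := hgfin
  letI : Algebra S B := ((algebraMap R' B).comp g).toAlgebra
  haveI : IsScalarTower S R' B := .of_algebraMap_eq' rfl
  haveI : Algebra.FiniteType S B :=
    Algebra.FiniteType.trans (inferInstance : Algebra.FiniteType S R') ‹Algebra.FiniteType R' B›
  haveI : FaithfulSMul S B := (faithfulSMul_iff_algebraMap_injective _ _).2
    ((RingHom.kerLift_injective (algebraMap R₀ B)).comp hginj)
  rcases hΛ with hΛ | hΛ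
  · letI := hΛ.toField
    haveI := (Groth.Agent.Lib.Cohen.PSRegular.mvPowerSeries Λ n).1
    haveI : IsDomain S := Groth.Agent.Lib.Regular.Quotient.isDomain S
    haveI : IsRegularRing S := isRegularRing_iff.2 fun p _ =>
      Groth.Agent.Lib.Regular.Serre.isRegularLocalRing_localization p
    refine core S (fun p hp hchar => ?_) B P K
    haveI := Fact.mk hp
    haveI : CharP Λ p := (RingHom.charP_iff (MvPowerSeries.C (σ := Fin n) (R := Λ))
      MvPowerSeries.C_injective p).2 hchar
    obtain ⟨ι, i1, i2, i3, F, hanti, hfin, hpow, hint⟩ :=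
      Groth.Agent.Lib.Cohen.CofiniteSubfields.exists_family p Λ
    refine ⟨ι, i1, i2, i3, fun i => Groth.Agent.Lib.Cohen.PSDerivation.restricted (F i) p n,
      fun i j hij w hw m => ⟨hanti i j hij (hw m).1, (hw m).2⟩, fun i => ?_,
      fun i r => Groth.Agent.Lib.Cohen.PSDerivation.pow_mem_restricted (hpow i) r,
      fun i w z hz hz0 hwz => Groth.Agent.Lib.Cohen.PSDerivation.mem_restricted_of_mul hz hz0 hwz,
      fun w hw => Groth.Agent.Lib.Cohen.PSDerivation.exists_pow_of_forall F hint hw⟩
    haveI := hfin i
    exact Groth.Agent.Lib.Cohen.PSDerivation.finite_restricted (F i)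
  · obtain ⟨_, _, -, p, hp, hmax⟩ := hΛ
    haveI := (Groth.Agent.Lib.Cohen.PSRegular.mvPowerSeries Λ n).1
    haveI : IsDomain S := Groth.Agent.Lib.Regular.Quotient.isDomain S
    haveI : IsRegularRing S := isRegularRing_iff.2 fun p _ =>
      Groth.Agent.Lib.Regular.Serre.isRegularLocalRing_localization p
    refine core S (fun l hl hchar => absurd ?_ hl.ne_zero) B P K
    haveI : CharZero Λ := by
      refine charZero_of_inj_zero fun m hm => ?_
      by_contra h0
      obtain ⟨e, m', hm', rfl⟩ := Nat.exists_eq_pow_mul_and_not_dvd h0 p hp.ne_one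
      have hirr : Irreducible (p : Λ) := (IsDiscreteValuationRing.irreducible_iff_uniformizer _).2 hmax
      rw [Nat.cast_mul, Nat.cast_pow] at hm
      have hm0 : (m' : Λ) = 0 := (mul_eq_zero.1 hm).resolve_left (pow_ne_zero _ hirr.ne_zero)
      obtain ⟨a, b, hab⟩ := Int.isCoprime_iff_gcd_eq_one.2
        (show Int.gcd (p : ℤ) (m' : ℤ) = 1 from (Nat.Prime.coprime_iff_not_dvd hp).2 hm')
      refine hirr.not_isUnit (IsUnit.of_mul_eq_one (b := (a : Λ)) ?_)
      have := congrArg (Int.cast : ℤ → Λ) hab
      push_cast at this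
      rw [hm0, mul_zero, add_zero] at this
      rw [mul_comm]
      exact this
    haveI : CharZero S := charZero_of_injective_ringHom
      (f := (MvPowerSeries.C : Λ →+* MvPowerSeries (Fin n) Λ)) MvPowerSeries.C_injective
    exact CharP.eq S hchar (CharP.ofCharZero S)

end Groth.Agent.Lib.GRing.CompleteFT
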