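import Groth.Agent.Lib.GRing.Engine
import Groth.Agent.Lib.Excellent.LocalizedHom
import Groth.Agent.Lib.Excellent.FibreNoetherian

/-!
# A criterion for G-rings through finite injective maps from regular domains
-/

set_option autoImplicit false
set_option linter.style.haveILetI false

universe u

open IsLocalRing
open scoped TensorProduct

namespace Groth.Agent.Lib.GRing.Criterion

open Groth.Agent.Lib.Excellent.FormalFibre

/-- Formal fibres descend along surjections. -/
theorem regular_of_surjective (R R' : Type u) [CommRing R] [IsNoetherianRing R] [CommRing R']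
    [Algebra R R'] (hs : Function.Surjective (algebraMap R R')) (P : Ideal R) [P.IsPrime]
    (P' : Ideal R') [P'.IsPrime] (hP : P'.comap (algebraMap R R') = P)
    (K : Type u) [Field K] [Algebra R' K] [Algebra R K] [IsScalarTower R R' K]
    (h : IsRegularRing (K ⊗[R'] EGA4.Cpl (Localization.AtPrime P'))) :
    IsRegularRing (K ⊗[R] EGA4.Cpl (Localization.AtPrime P)) := by
  haveI : Module.Finite R R' := Module.Finite.of_surjective (Algebra.linearMap R R') hs
  let C := EGA4.Cpl (Localization.AtPrime P)
  let T := R' ⊗[R] C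
  obtain ⟨n, hn, hnP⟩ := Component.exists_prime R R' P P' hP
  obtain ⟨e⟩ := Component.component_equiv R R' P P' hP n hnP
  haveI : Nontrivial T := ⟨⟨0, 1, fun h01 => hn.ne_top ((Ideal.eq_top_iff_one n).2 (h01 ▸ n.zero_mem))⟩⟩
  haveI : IsLocalRing T := IsLocalRing.of_surjective'
    (Algebra.TensorProduct.includeRight : C →ₐ[R] T).toRingHom
    (TensorProduct.mk_surjective _ _ _ hs)
  have hu : n.primeCompl ≤ IsUnit.submonoid T := fun t ht => by
    by_contra h'
    exact ht ((IsLocalRing.eq_maximalIdeal hn).ge h')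
  let e' : T ≃ₐ[T] Localization.AtPrime n := IsLocalization.atUnits T n.primeCompl hu
  haveI : IsRegularRing (K ⊗[R'] T) := IsRegularRing.of_ringEquiv
    (Algebra.TensorProduct.congr (AlgEquiv.refl : K ≃ₐ[R'] K)
      (e.trans (e'.restrictScalars R').symm)).toRingEquiv
  exact IsRegularRing.of_ringEquiv (Algebra.TensorProduct.cancelBaseChange R R' K K C).toRingEquiv

/-- A ring whose quotient domains are finite over regular domains with enough derivations is a
G-ring. -/
theorem isGRing_of_finite_injective (R : Type u) [CommRing R] [IsNoetherianRing R]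
    (h : ∀ (q : Ideal R) [q.IsPrime], ∃ (S : Type u) (_ : CommRing S) (g : S →+* R ⧸ q),
      IsDomain S ∧ IsRegularRing S ∧ (∀ p : ℕ, p.Prime → CharP S p → Engine.DerivCond p S) ∧
        Function.Injective g ∧ g.Finite) :
    CAlg.IsGRing R := by
  refine ⟨inferInstance, fun P _ => ?_⟩
  let A := Localization.AtPrime P
  haveI : IsNoetherianRing A := IsLocalization.isNoetherianRing P.primeCompl A inferInstance
  refine ⟨inferInstance, fun p _ =>
    ⟨Groth.Agent.Lib.Excellent.FibreNoetherian.isNoetherianRing_fibre _ p, ?_⟩⟩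
  refine (forall_fibre_iff (P := fun R [CommRing R] => IsRegularRing R)
    Groth.Agent.Lib.Excellent.Transport.isoInvariant_isRegularRing (EGA4.Cpl A)).2 (fun K _ _ hK => ?_) p
  letI : Algebra R K := ((algebraMap A K).comp (algebraMap R A)).toAlgebra
  haveI : IsScalarTower R A K := .of_algebraMap_eq' rfl
  have hK' : IsFinPoint R K :=
    Groth.Agent.Lib.Excellent.LocalizedHom.isFinPoint_of_isLocalization P.primeCompl K hK
  haveI : TensorProduct.CompatibleSMul R A K (EGA4.Cpl A) :=
    IsLocalization.tensorProduct_compatibleSMul P.primeCompl A K (EGA4.Cpl A)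
  suffices IsRegularRing (K ⊗[R] EGA4.Cpl A) from IsRegularRing.of_ringEquiv
    (Algebra.TensorProduct.equivOfCompatibleSMul R A A K (EGA4.Cpl A)).symm.toRingEquiv
  let q := RingHom.ker (algebraMap R K)
  haveI : q.IsPrime := RingHom.ker_isPrime _
  have hqP : q ≤ P := fun r hr => by
    by_contra hrP
    have h1 : IsUnit (algebraMap R K r) := by
      rw [IsScalarTower.algebraMap_apply R A K]
      exact (IsLocalization.map_units A (⟨r, hrP⟩ : P.primeCompl)).map _
    exact h1.ne_zero hr
  letI : Algebra (R ⧸ q) K := (Ideal.Quotient.lift q (algebraMap R K) fun _ h => h).toAlgebra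
  haveI : IsScalarTower R (R ⧸ q) K := .of_algebraMap_eq fun _ => rfl
  let P' := P.map (Ideal.Quotient.mk q)
  haveI : P'.IsPrime := Ideal.map_isPrime_of_surjective Ideal.Quotient.mk_surjective (by rwa [Ideal.mk_ker])
  have hP' : P'.comap (algebraMap R (R ⧸ q)) = P := by
    rw [Ideal.Quotient.algebraMap_eq, Ideal.comap_map_of_surjective _ Ideal.Quotient.mk_surjective,
      ← RingHom.ker_eq_comap_bot, Ideal.mk_ker, sup_eq_left.2 hqP]
  refine regular_of_surjective R (R ⧸ q) Ideal.Quotient.mk_surjective P P' hP' K ?_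
  obtain ⟨S, _, g, _, _, hD, hginj, hgfin⟩ := h q
  letI : Algebra S (R ⧸ q) := g.toAlgebra
  haveI : Module.Finite S (R ⧸ q) := hgfin
  letI : Algebra S K := ((algebraMap (R ⧸ q) K).comp g).toAlgebra
  haveI : IsScalarTower S (R ⧸ q) K := .of_algebraMap_eq' rfl
  let p0 := P'.comap (algebraMap S (R ⧸ q))
  refine Component.isRegularRing_component S (R ⧸ q) p0 P' rfl K ?_
  obtain ⟨B, hB, hfr⟩ := hK'
  letI : Algebra (R ⧸ q) B := (Ideal.Quotient.lift q (algebraMap R B) fun r hr =>
    Subtype.ext hr).toAlgebra
  haveI : IsScalarTower R (R ⧸ q) B := .of_algebraMap_eq fun _ => rfl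
  haveI : Module.Finite (R ⧸ q) B := Module.Finite.of_restrictScalars_finite R (R ⧸ q) B
  letI : Algebra S B := ((algebraMap (R ⧸ q) B).comp g).toAlgebra
  haveI : IsScalarTower S (R ⧸ q) B := .of_algebraMap_eq' rfl
  haveI : Module.Finite S B := Module.Finite.trans (R ⧸ q) B
  haveI : IsScalarTower S B K := .of_algebraMap_eq fun s => by
    obtain ⟨r, hr⟩ := Ideal.Quotient.mk_surjective (g s)
    change algebraMap (R ⧸ q) K (g s) = ((algebraMap (R ⧸ q) B (g s) : B) : K)
    rw [← hr]
    rfl
  haveI : FaithfulSMul S B := (faithfulSMul_iff_algebraMap_injective _ _).2 fun x y hxy => by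
    refine hginj (RingHom.lift_injective_of_ker_le_ideal q (f := algebraMap R K) (fun _ h => h) le_rfl ?_)
    obtain ⟨r, hr⟩ := Ideal.Quotient.mk_surjective (g x)
    obtain ⟨r', hr'⟩ := Ideal.Quotient.mk_surjective (g y)
    change algebraMap (R ⧸ q) B (g x) = algebraMap (R ⧸ q) B (g y) at hxy
    rw [← hr, ← hr'] at hxy ⊢
    exact congrArg Subtype.val hxy
  exact Engine.good S hD p0 B K

end Groth.Agent.Lib.GRing.Criterion
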