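import Groth.Agent.H24.CoefficientField
import Groth.Agent.H24.PowerSeries
import Mathlib.RingTheory.Ideal.Cotangent
import Mathlib.RingTheory.LocalRing.ResidueField.Ideal
import Mathlib.RingTheory.DedekindDomain.Basic

/-!
# Derivations into residue fields detecting cotangent classes
-/

set_option autoImplicit false
set_option linter.style.haveILetI false

universe u

open IsLocalRing

namespace Groth.Agent.Lib.GRing.ResDerivation

open Groth.Agent.Lib.FSAdic.Basic in
/-- A formally smooth residue field lifts compatibly with the constants. -/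
theorem exists_section (R : Type u) [CommRing R] [IsLocalRing R] [IsNoetherianRing R]
    [IsAdicComplete (maximalIdeal R) R] (P : Type u) [Field P] [Algebra P R]
    (hP : Algebra.FormallySmooth P (ResidueField R)) :
    ∃ v : ResidueField R →ₐ[P] R, ∀ x, residue R (v x) = x := by
  have hB : EGA41.IsFormallySmoothAdic P ⊥ (ResidueField R) ⊥ :=
    of_formallySmooth
  haveI : IsHausdorff ((maximalIdeal R).map (Ideal.Quotient.mk (maximalIdeal R)))
      (R ⧸ maximalIdeal R) := by
    rw [Ideal.map_quotient_self]; infer_instance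
  obtain ⟨v, -, hv⟩ := exists_lift_complete hB (maximalIdeal R) ⟨1, by simp⟩
    (maximalIdeal R) ⟨1, by simp⟩ (AlgHom.id P (ResidueField R))
    ⟨1, by rw [pow_one]; exact Ideal.map_bot.trans_le bot_le⟩
  exact ⟨v, fun x => AlgHom.congr_fun hv x⟩

/-- A cotangent class is detected by a derivation into the residue field killing the constants. -/
theorem exists_local (R : Type u) [CommRing R] [IsLocalRing R] [IsNoetherianRing R]
    (k₀ : Type u) [Field k₀] [Algebra k₀ R]
    (hsm : ∀ (E : Type u) [Field E] [Algebra k₀ E], Algebra.FormallySmooth k₀ E)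
    (g : R) (hg : g ∈ maximalIdeal R) (hg2 : g ∉ maximalIdeal R ^ 2) :
    ∃ θ : R →+ ResidueField R, (∀ a b, θ (a * b) = residue R a * θ b + residue R b * θ a) ∧
      (∀ c : k₀, θ (algebraMap k₀ R c) = 0) ∧ θ g = 1 := by
  classical
  let m := maximalIdeal R
  let R1 := R ⧸ m ^ 2
  haveI : Nontrivial R1 := Ideal.Quotient.nontrivial_iff.2 fun h =>
    (maximalIdeal.isMaximal R).ne_top (top_le_iff.1 (h ▸ Ideal.pow_le_self two_ne_zero))
  haveI : IsLocalRing R1 := IsLocalRing.of_surjective' _ Ideal.Quotient.mk_surjective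
  haveI : IsLocalHom (Ideal.Quotient.mk (m ^ 2)) := IsLocalHom.of_surjective _ Ideal.Quotient.mk_surjective
  have hm1 : maximalIdeal R1 = m.map (Ideal.Quotient.mk (m ^ 2)) := by
    rw [← Ideal.map_comap_of_surjective (Ideal.Quotient.mk (m ^ 2)) Ideal.Quotient.mk_surjective
      (maximalIdeal R1), IsLocalRing.maximalIdeal_comap]
  haveI : IsAdicComplete (maximalIdeal R1) R1 :=
    Groth.Agent.H24.PowerSeries.isAdicComplete_of_pow_eq_bot _ 2 (by
      rw [hm1, ← Ideal.map_pow, Ideal.map_quotient_self])
  haveI := hsm (ResidueField R1)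
  obtain ⟨v, hv⟩ := exists_section R1 k₀ ‹_›
  let ι : ResidueField R →+* ResidueField R1 := ResidueField.map (Ideal.Quotient.mk (m ^ 2))
  let s : ResidueField R →+* R1 := v.toRingHom.comp ι
  choose r hr using fun x : ResidueField R => Ideal.Quotient.mk_surjective (s x)
  have hrm : ∀ a, a - r (residue R a) ∈ m := fun a => by
    have h1 : Ideal.Quotient.mk (m ^ 2) (a - r (residue R a)) ∈ maximalIdeal R1 := by
      rw [← residue_eq_zero_iff, map_sub, map_sub, hr]
      change residue R1 (Ideal.Quotient.mk _ a) - residue R1 (v (ι (residue R a))) = 0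
      rw [hv, ResidueField.map_residue, sub_self]
    exact (IsLocalRing.maximalIdeal_comap (Ideal.Quotient.mk (m ^ 2))).le (show a - r (residue R a) ∈ (maximalIdeal R1).comap (Ideal.Quotient.mk (m ^ 2)) from h1)
  have hne : m.toCotangent ⟨g, hg⟩ ≠ 0 := fun h => hg2 ((Ideal.toCotangent_eq_zero _ _).1 h)
  obtain ⟨f, hf⟩ := Module.Projective.exists_dual_ne_zero (ResidueField R)
    (show ((m.toCotangent ⟨g, hg⟩ : CotangentSpace R)) ≠ 0 from hne)
  let F : m → ResidueField R := fun x => (f (m.toCotangent ⟨g, hg⟩))⁻¹ * f (m.toCotangent x)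
  have Fadd : ∀ x y : m, F (x + y) = F x + F y := fun x y => by
    simp only [F, map_add, mul_add]
  have Fsmul : ∀ (a : R) (x : m), F (a • x) = residue R a * F x := fun a x => by
    have h1 : (m.toCotangent (a • x) : CotangentSpace R) = residue R a • (m.toCotangent x : CotangentSpace R) := by
      rw [map_smul]; rfl
    simp only [F, h1, map_smul, smul_eq_mul]
    ring
  have Fzero : ∀ x : m, (x : R) ∈ m ^ 2 → F x = 0 := fun x hx => by
    simp only [F, (Ideal.toCotangent_eq_zero _ _).2 hx, map_zero, mul_zero]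
  let θ : R → ResidueField R := fun a => F ⟨_, hrm a⟩
  have hcongr : ∀ x y : m, (x : R) - y ∈ m ^ 2 → F x = F y := fun x y hxy => by
    have : F x = F (x - y) + F y := by rw [← Fadd, sub_add_cancel]
    rw [this, Fzero (x - y) hxy, zero_add]
  have hadd : ∀ a b, θ (a + b) = θ a + θ b := fun a b => by
    rw [← Fadd]
    refine hcongr _ _ ?_
    rw [← Ideal.Quotient.eq_zero_iff_mem]
    simp only [AddMemClass.coe_add, map_sub, map_add, hr]
    ring
  refine ⟨AddMonoidHom.mk' θ hadd, fun a b => ?_, fun c => ?_, ?_⟩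
  · change θ (a * b) = residue R a * θ b + residue R b * θ a
    have h1 : F ⟨_, hrm (a * b)⟩ =
        F (a • (⟨_, hrm b⟩ : m) + r (residue R b) • (⟨_, hrm a⟩ : m)) := by
      refine hcongr _ _ ?_
      rw [← Ideal.Quotient.eq_zero_iff_mem]
      simp only [AddMemClass.coe_add, SetLike.val_smul, smul_eq_mul, map_sub, map_add, map_mul, hr]
      ring
    have h2 : residue R (r (residue R b)) = residue R b := by
      rw [← sub_eq_zero, ← map_sub, residue_eq_zero_iff]
      exact (Ideal.neg_mem_iff _).1 (by rw [neg_sub]; exact hrm b)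
    simp only [θ]
    rw [h1, Fadd, Fsmul, Fsmul, h2]
  · change θ (algebraMap k₀ R c) = 0
    refine Fzero _ ?_
    rw [← Ideal.Quotient.eq_zero_iff_mem, map_sub, hr]
    change algebraMap k₀ R1 c - v (ι (residue R (algebraMap k₀ R c))) = 0
    rw [ResidueField.map_residue,
      show residue R1 (Ideal.Quotient.mk (m ^ 2) (algebraMap k₀ R c)) =
        algebraMap k₀ (ResidueField R1) c from rfl, v.commutes, sub_self]
  · change θ g = 1
    have h0 : residue R g = 0 := (residue_eq_zero_iff _).2 hg
    have h1 : F ⟨_, hrm g⟩ = F ⟨g, hg⟩ := by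
      refine hcongr _ _ ?_
      rw [← Ideal.Quotient.eq_zero_iff_mem]
      simp only [map_sub, hr, h0, map_zero]
      ring
    simp only [θ]
    rw [h1]
    exact inv_mul_cancel₀ hf

/-- A cotangent class at a prime is detected by a derivation into the residue field. -/
theorem exists_atPrime (A : Type u) [CommRing A] [IsNoetherianRing A] (q : Ideal A) [q.IsPrime]
    (k₀ : Type u) [Field k₀] [Algebra k₀ (Localization.AtPrime q)]
    (hsm : ∀ (E : Type u) [Field E] [Algebra k₀ E], Algebra.FormallySmooth k₀ E)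
    (g : A) (hg : g ∈ q) (hg2 : ∀ s ∉ q, s * g ∉ q ^ 2) :
    ∃ θ : A →+ q.ResidueField,
      (∀ a b, θ (a * b) = algebraMap A q.ResidueField a * θ b + algebraMap A q.ResidueField b * θ a) ∧
      (∀ (a : A) (c : k₀), algebraMap A (Localization.AtPrime q) a = algebraMap k₀ _ c → θ a = 0) ∧
      θ g = 1 := by
  let L := Localization.AtPrime q
  haveI : IsNoetherianRing L := IsLocalization.isNoetherianRing q.primeCompl L inferInstance
  have h2 : algebraMap A L g ∉ maximalIdeal L ^ 2 := by
    intro h
    have h' : algebraMap A L g ∈ (q ^ 2).map (algebraMap A L) := by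
      rw [Ideal.map_pow, Localization.AtPrime.map_eq_maximalIdeal]; exact h
    obtain ⟨s, hs, hsg⟩ := (IsLocalization.algebraMap_mem_map_algebraMap_iff q.primeCompl L _ _).1 h'
    exact hg2 s hs hsg
  obtain ⟨θ, hmul, hk, hθ⟩ := exists_local L k₀ hsm (algebraMap A L g)
    ((IsLocalization.AtPrime.to_map_mem_maximal_iff L q g).2 hg) h2
  refine ⟨θ.comp (algebraMap A L).toAddMonoidHom, fun a b => ?_, fun a c h => ?_, hθ⟩
  · change θ (algebraMap A L (a * b)) = _
    rw [map_mul, hmul]
    rfl
  · change θ (algebraMap A L a) = 0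
    rw [h, hk]

end Groth.Agent.Lib.GRing.ResDerivation
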