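import Groth.Agent.Lib.GRing.Jacobian
import Groth.Agent.Lib.GRing.ResDerivation
import Groth.Agent.H60.DerSection
import Groth.Agent.Lib.PBasis.Eventual
import Groth.Agent.Lib.PBasis.FieldSmooth
import Mathlib.Algebra.MvPolynomial.PDeriv
import Mathlib.LinearAlgebra.TensorProduct.Basis

/-!
# Polynomial rings over domains with small subrings of constants detect cotangent classes
-/

set_option autoImplicit false
set_option linter.style.haveILetI false

universe u

open scoped TensorProduct
open MvPolynomial

namespace Groth.Agent.Lib.GRing.Detect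

/-- A directed family of subrings over which `S` is finite and whose intersection is `S ^ p`. -/
def Family (p : ℕ) (S : Type u) [CommRing S] : Prop :=
  ∃ (ι : Type u) (_ : Preorder ι) (_ : IsDirected ι (· ≤ ·)) (_ : Nonempty ι) (R : ι → Subring S),
    (∀ i j, i ≤ j → R j ≤ R i) ∧ (∀ i, Module.Finite (R i) S) ∧ (∀ i r, r ^ p ∈ R i) ∧
    (∀ i (w z : S), z ∈ R i → z ≠ 0 → w * z ∈ R i → w ∈ R i) ∧
    (∀ w, (∀ i, w ∈ R i) → ∃ v, v ^ p = w)

/-- Derivations into the residue field detecting a polynomial are realised on the polynomial ring. -/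
theorem exists_derivation_S {p : ℕ} [Fact p.Prime] (S : Type u) [CommRing S] [IsDomain S] [CharP S p]
    (hfam : Family p S) (κ : Type u) [Field κ] [Algebra S κ] [FaithfulSMul S κ]
    (δ : S →+ κ) (hδ : ∀ a b, δ (a * b) = algebraMap S κ a * δ b + algebraMap S κ b * δ a)
    {J : Type} [Fintype J] (x : J → κ) (c : J → S) (hne : ∑ j, x j * δ (c j) ≠ 0) :
    ∃ D : Derivation ℤ S S, ∑ j, x j * algebraMap S κ (D (c j)) ≠ 0 := by
  classical
  obtain ⟨ι, _, _, _, R, hanti, hfin, hpow, hdiv, hint⟩ := hfam
  let L := FractionRing S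
  have hinj : Function.Injective (algebraMap S L) := IsFractionRing.injective S L
  have hinjκ : Function.Injective (algebraMap S κ) := FaithfulSMul.algebraMap_injective S κ
  haveI : CharP L p := charP_of_injective_ringHom hinj p
  haveI : CharP κ p := charP_of_injective_ringHom hinjκ p
  haveI : ExpChar L p := ExpChar.prime Fact.out
  letI : Algebra L κ := FractionRing.liftAlgebra S κ
  haveI : IsScalarTower S L κ := FractionRing.isScalarTower_liftAlgebra S κ
  let G : ι → Subfield L := fun i => Subfield.closure (algebraMap S L '' (R i : Set S))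
  have hp1 : p - 1 + 1 = p := Nat.succ_pred_eq_of_pos (Fact.out : p.Prime).pos
  have hGp : ∀ i (z : L), z ^ p ∈ G i := fun i z => by
    obtain ⟨a, b, -, rfl⟩ := IsFractionRing.div_surjective S z
    rw [div_pow, ← map_pow, ← map_pow]
    exact (G i).div_mem (Subfield.subset_closure ⟨_, hpow i a, rfl⟩)
      (Subfield.subset_closure ⟨_, hpow i b, rfl⟩)
  have hGint : ∀ y : L, (∀ i, y ∈ G i) → ∃ z : L, z ^ p = y := by
    intro y hy
    obtain ⟨a, b, hb, rfl⟩ := IsFractionRing.div_surjective S y
    have hb0 : b ≠ 0 := nonZeroDivisors.ne_zero hb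
    have hb' : algebraMap S L b ≠ 0 := (map_ne_zero_iff _ hinj).2 hb0
    have hw : ∀ i, a * b ^ (p - 1) ∈ R i := by
      intro i
      obtain ⟨u, hu, v, hv, huv⟩ := Subfield.mem_closure_iff.1 (hy i)
      have hmap : ∀ u ∈ Subring.closure (algebraMap S L '' (R i : Set S)),
          ∃ u' ∈ R i, algebraMap S L u' = u := by
        intro u hu
        rw [← RingHom.map_closure, Subring.closure_eq] at hu
        exact hu
      obtain ⟨u', hu', rfl⟩ := hmap u hu
      obtain ⟨v', hv', rfl⟩ := hmap v hv
      rcases eq_or_ne v' 0 with rfl | hv0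
      · rw [map_zero, div_zero, eq_comm, div_eq_zero_iff] at huv
        rw [hinj ((huv.resolve_right hb').trans (map_zero _).symm), zero_mul]
        exact Subring.zero_mem _
      refine hdiv i _ v' hv' hv0 ?_
      rw [div_eq_div_iff ((map_ne_zero_iff _ hinj).2 hv0) hb', ← map_mul, ← map_mul] at huv
      have : a * b ^ (p - 1) * v' = u' * b ^ p := by
        conv_rhs => rw [← hp1, pow_succ', ← mul_assoc, hinj huv]
        ring
      rw [this]
      exact Subring.mul_mem _ hu' (hpow i b)
    obtain ⟨v, hv⟩ := hint _ hw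
    refine ⟨algebraMap S L v / algebraMap S L b, ?_⟩
    rw [div_pow, ← map_pow, hv, div_eq_div_iff (pow_ne_zero _ hb') hb', map_mul, map_pow, mul_assoc,
      ← pow_succ, hp1]
  -- the prime field
  let P₀ := ULift.{u} (ZMod p)
  letI : Algebra P₀ L :=
    ((ZMod.castHom (dvd_refl p) L).comp (ULift.ringEquiv : P₀ ≃+* ZMod p).toRingHom).toAlgebra
  letI : Algebra P₀ κ := ((algebraMap L κ).comp (algebraMap P₀ L)).toAlgebra
  haveI : IsScalarTower P₀ L κ := .of_algebraMap_eq' rfl
  have hP₀ : ∀ c : P₀, ∃ n : ℕ, algebraMap P₀ L c = (n : L) := fun c => ⟨c.down.val, by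
    rw [RingHom.algebraMap_toAlgebra]
    change ZMod.castHom (dvd_refl p) L c.down = _
    rw [ZMod.castHom_apply, ZMod.cast_eq_val]⟩
  have hanti' : ∀ i j, i ≤ j → ∀ y ∈ EGA41.pPowerSubalgebra p (G j) L,
      y ∈ EGA41.pPowerSubalgebra p (G i) L := by
    intro i j hij y hy
    have hle : G j ≤ G i := Subfield.closure_mono (Set.image_mono (hanti i j hij))
    induction hy using Algebra.adjoin_induction with
    | mem z hz => exact Algebra.subset_adjoin hz
    | algebraMap r => exact Subalgebra.algebraMap_mem _ (⟨(r : L), hle r.2⟩ : G i)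
    | add a b _ _ ha hb => exact add_mem ha hb
    | mul a b _ _ ha hb => exact mul_mem ha hb
  have hpG : ∀ i, ∀ y ∈ EGA41.pPowerSubalgebra p (G i) L, y ∈ G i := by
    intro i y hy
    rw [Groth.Agent.Lib.PBasis.Basic.pPower_eq_range (p := p) fun b => ⟨⟨b ^ p, hGp i b⟩, rfl⟩] at hy
    obtain ⟨t, rfl⟩ := Algebra.mem_bot.1 hy
    exact t.2
  have hint' : ∀ y, (∀ i, y ∈ EGA41.pPowerSubalgebra p (G i) L) →
      y ∈ EGA41.pPowerSubalgebra p P₀ L := by
    intro y hy
    obtain ⟨z, rfl⟩ := hGint y fun i => hpG i y (hy i)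
    exact Algebra.subset_adjoin ⟨z, rfl⟩
  have hex : ∀ i, ∃ f : Ω[L⁄P₀] →ₗ[L] Ω[L⁄G i],
      ∀ y, f (KaehlerDifferential.D P₀ L y) = KaehlerDifferential.D (G i) L y := fun i =>
    Groth.Agent.Lib.PBasis.Eventual.exists_factor (p := p) fun a => by
      obtain ⟨n, hn⟩ := hP₀ a
      rw [hn]
      exact natCast_mem _ n
  choose f hf using hex
  -- the derivation on the fraction field
  let ψ : S →+* TrivSqZeroExt κ κ :=
    { toFun := fun a => TrivSqZeroExt.inl (algebraMap S κ a) + TrivSqZeroExt.inr (δ a)
      map_one' := by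
        have h1 : δ 1 = 0 := by simpa using hδ 1 1
        ext <;> simp [h1]
      map_zero' := by ext <;> simp
      map_add' := fun a b => by ext <;> simp
      map_mul' := fun a b => by
        ext
        · simp
        · simp [hδ]
          ring }
  have hu : ∀ s : nonZeroDivisors S, IsUnit (ψ s) := fun s => by
    rw [TrivSqZeroExt.isUnit_iff_isUnit_fst]
    simpa [ψ] using (map_ne_zero_iff _ hinjκ).2 (nonZeroDivisors.ne_zero s.2)
  let χ : L →+* TrivSqZeroExt κ κ := IsLocalization.lift hu
  have hfst : ∀ t : L, (χ t).fst = algebraMap L κ t := by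
    intro t
    have : (TrivSqZeroExt.fstHom κ κ κ).toRingHom.comp χ = algebraMap L κ := by
      refine IsLocalization.ringHom_ext (nonZeroDivisors S) (RingHom.ext fun a => ?_)
      simp [χ, ψ, IsLocalization.lift_eq, ← IsScalarTower.algebraMap_apply]
    exact RingHom.congr_fun this t
  have hchi : ∀ a : S, (χ (algebraMap S L a)).snd = δ a := fun a => by
    simp [χ, ψ, IsLocalization.lift_eq]
  have hchimul : ∀ a b : L, (χ (a * b)).snd = a • (χ b).snd + b • (χ a).snd := fun a b => by
    rw [map_mul, TrivSqZeroExt.snd_mul, hfst, hfst, op_smul_eq_smul, smul_eq_mul, smul_eq_mul,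
      Algebra.smul_def, Algebra.smul_def]
  let δL : Derivation P₀ L κ := Derivation.mk'
    { toFun := fun a => (χ a).snd
      map_add' := fun a b => by simp
      map_smul' := fun c a => by
        obtain ⟨n, hn⟩ := hP₀ c
        rw [RingHom.id_apply, Algebra.smul_def c a, hn, Algebra.smul_def c,
          IsScalarTower.algebraMap_apply P₀ L κ, hn, hchimul]
        have h1 : (χ (n : L)).snd = 0 := by rw [map_natCast]; exact TrivSqZeroExt.snd_natCast n
        rw [h1, smul_zero, add_zero, Algebra.smul_def] }
    hchimul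
  let w : κ ⊗[L] Ω[L⁄P₀] := ∑ j, x j ⊗ₜ KaehlerDifferential.D P₀ L (algebraMap S L (c j))
  have hw : w ≠ 0 := by
    intro h0
    let Λ : κ ⊗[L] Ω[L⁄P₀] →ₗ[κ] κ := δL.liftKaehlerDifferential.liftBaseChange κ
    refine hne ?_
    have h1 : Λ w = ∑ j, x j * δ (c j) := by
      simp only [w, map_sum]
      refine Finset.sum_congr rfl fun j _ => ?_
      rw [show x j * δ (c j) = x j • (δL (algebraMap S L (c j))) from by
        rw [smul_eq_mul]; exact congrArg (x j * ·) (hchi _).symm]
      simp [Λ]
    rw [← h1, h0, map_zero]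
  obtain ⟨i₀, hi₀⟩ := Groth.Agent.Lib.PBasis.Eventual.eventually_ker_inf_eq_bot (p := p) (K := L)
    (L := κ) (fun i => (G i)) hanti' hint' f hf (Submodule.span κ {w})
  have hw' : (f i₀).baseChange κ w ≠ 0 := fun h0 =>
    hw (hi₀ i₀ le_rfl w (Submodule.mem_span_singleton_self w) h0)
  let b := Module.Free.chooseBasis L Ω[L⁄G i₀]
  obtain ⟨l, hl⟩ : ∃ l, (b.baseChange κ).repr ((f i₀).baseChange κ w) l ≠ 0 := by
    by_contra! hall
    exact hw' ((b.baseChange κ).repr.injective (by ext l; simp [hall l]))
  let φ := b.coord l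
  let D1 : Derivation (G i₀) L L := φ.compDer (KaehlerDifferential.D (G i₀) L)
  have hval : (b.baseChange κ).repr ((f i₀).baseChange κ w) l =
      ∑ j, x j * algebraMap L κ (D1 (algebraMap S L (c j))) := by
    simp only [w, map_sum, LinearMap.baseChange_tmul, hf, Finsupp.coe_finsetSum, Finset.sum_apply]
    refine Finset.sum_congr rfl fun j _ => ?_
    rw [Module.Basis.baseChange_repr_tmul, Algebra.smul_def, mul_comm]
    rfl
  -- clear denominators
  haveI := hfin i₀
  obtain ⟨gs, hgs⟩ := Module.Finite.fg_top (R := R i₀) (M := S)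
  obtain ⟨⟨s, hs⟩, hs'⟩ := IsLocalization.exist_integer_multiples_of_finset (nonZeroDivisors S)
    (gs.image fun a => D1 (algebraMap S L a))
  have hD0 : ∀ r : R i₀, D1 (algebraMap S L (r : S)) = 0 := fun r =>
    D1.map_algebraMap (⟨_, Subfield.subset_closure ⟨_, r.2, rfl⟩⟩ : G i₀)
  have hmem : ∀ a : S, ∃ a' : S, algebraMap S L a' = algebraMap S L s * D1 (algebraMap S L a) := by
    intro a
    have ha : a ∈ Submodule.span (R i₀) (gs : Set S) := hgs ▸ Submodule.mem_top
    induction ha using Submodule.span_induction with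
    | mem x hx =>
      obtain ⟨a', ha'⟩ := hs' _ (Finset.mem_image_of_mem _ hx)
      exact ⟨a', ha'.trans (by rw [Algebra.smul_def])⟩
    | zero => exact ⟨0, by simp⟩
    | add x y _ _ hx hy =>
      obtain ⟨a, ha⟩ := hx
      obtain ⟨b, hb⟩ := hy
      exact ⟨a + b, by rw [map_add, ha, hb, map_add, map_add, mul_add]⟩
    | smul r x _ hx =>
      obtain ⟨a, ha⟩ := hx
      refine ⟨(r : S) * a, ?_⟩
      have e : algebraMap S L (r • x) = algebraMap S L (r : S) * algebraMap S L x := by
        rw [← map_mul]; rfl
      rw [e, Derivation.leibniz, hD0, smul_zero, add_zero, smul_eq_mul, map_mul, ha]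
      ring
  choose E hE using hmem
  let D : Derivation ℤ S S := Derivation.mk' (AddMonoidHom.toIntLinearMap
    { toFun := E
      map_zero' := hinj (by rw [hE, map_zero, map_zero, mul_zero])
      map_add' := fun a b => hinj (by rw [hE, map_add, map_add, map_add, mul_add, hE, hE]) })
    (fun a b => hinj (by
      change algebraMap S L (E (a * b)) = algebraMap S L (a • E b + b • E a)
      rw [hE, map_mul, Derivation.leibniz, smul_eq_mul, smul_eq_mul, smul_eq_mul, smul_eq_mul, map_add,
        map_mul, map_mul, hE, hE]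
      ring))
  refine ⟨D, ?_⟩
  have h2 : ∑ j, x j * algebraMap S κ (D (c j)) =
      algebraMap L κ (algebraMap S L s) * ∑ j, x j * algebraMap L κ (D1 (algebraMap S L (c j))) := by
    rw [Finset.mul_sum]
    refine Finset.sum_congr rfl fun j _ => ?_
    rw [IsScalarTower.algebraMap_apply S L κ, show algebraMap S L (D (c j)) = _ from hE (c j), map_mul]
    ring
  rw [h2, ← hval]
  exact mul_ne_zero ((map_ne_zero _).2 ((map_ne_zero_iff _ hinj).2 (nonZeroDivisors.ne_zero hs))) hl

/-- Polynomial rings detect cotangent classes at primes lying over zero. -/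
theorem detects (S : Type u) [CommRing S] [IsDomain S] [IsNoetherianRing S]
    (hfam : ∀ p : ℕ, p.Prime → CharP S p → Family p S) {σ : Type u} [Finite σ]
    (q : Ideal (MvPolynomial σ S)) [q.IsPrime] (hq0 : q.comap (C : S →+* MvPolynomial σ S) = ⊥) :
    Jacobian.Detects (MvPolynomial σ S) q := by
  classical
  intro g hg hg2
  by_contra hall
  push Not at hall
  let A := MvPolynomial σ S
  let κ := q.ResidueField
  let L := FractionRing S
  let Aq := Localization.AtPrime q
  haveI := Fintype.ofFinite σ
  have hS : ∀ s : S, algebraMap A κ (C s) = 0 → s = 0 := fun s hs => by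
    have h1 : (C s : A) ∈ q := Ideal.algebraMap_residueField_eq_zero.1 hs
    have : s ∈ q.comap (C : S →+* A) := h1
    rwa [hq0] at this
  letI : Algebra S κ := ((algebraMap A κ).comp C).toAlgebra
  haveI : FaithfulSMul S κ := (faithfulSMul_iff_algebraMap_injective _ _).2 <| by
    rw [injective_iff_map_eq_zero]; exact hS
  letI : Algebra L Aq := (IsLocalization.lift (M := nonZeroDivisors S)
    (g := (algebraMap A Aq).comp C) fun s => IsLocalization.map_units Aq (⟨C (s : S), fun h => by
      have : (s : S) ∈ q.comap (C : S →+* A) := h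
      rw [hq0] at this
      exact nonZeroDivisors.ne_zero s.2 this⟩ : q.primeCompl)).toAlgebra
  have hCL : ∀ s : S, algebraMap A Aq (C s) = algebraMap L Aq (algebraMap S L s) := fun s => by
    rw [RingHom.algebraMap_toAlgebra (R := L), IsLocalization.lift_eq]; rfl
  have hpd : ∀ i, algebraMap A κ (pderiv i g) = 0 := fun i =>
    Ideal.algebraMap_residueField_eq_zero.2 (hall ((pderiv i : Derivation S A A).restrictScalars ℤ))
  -- the part of a derivation coming from the constants
  have hsplit : ∀ θ : A →+ κ,
      (∀ a b, θ (a * b) = algebraMap A κ a * θ b + algebraMap A κ b * θ a) → θ g = 1 →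
      ∑ m : g.support, algebraMap A κ (monomial (m : σ →₀ ℕ) 1) * θ (C (g.coeff m)) = 1 := by
    intro θ hθ h1
    let E : A →+ κ := θ - ∑ i, (AddMonoidHom.mulLeft (θ (X i))).comp
      ((algebraMap A κ).toAddMonoidHom.comp (pderiv i : Derivation S A A).toLinearMap.toAddMonoidHom)
    have hE : ∀ a, E a = θ a - ∑ i, θ (X i) * algebraMap A κ (pderiv i a) := fun a => by simp [E]
    have hEmul : ∀ a b, E (a * b) = algebraMap A κ a * E b + algebraMap A κ b * E a := fun a b => by
      simp only [hE, hθ, Derivation.leibniz, smul_eq_mul, map_add, map_mul, mul_add, mul_sub,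
        Finset.sum_add_distrib, Finset.mul_sum]
      simp only [mul_left_comm]
      ring
    have hEX : ∀ i, E (X i) = 0 := fun i => by
      simp [hE, pderiv_X, Pi.single_apply, apply_ite (algebraMap A κ)]
    have hEC : ∀ s, E (C s) = θ (C s) := fun s => by simp [hE]
    have hE1 : E 1 = 0 := by simpa using hEmul 1 1
    have hmon : ∀ m : σ →₀ ℕ, E (monomial m (1 : S)) = 0 := by
      intro m
      induction m using Finsupp.induction with
      | zero => rw [show monomial (0 : σ →₀ ℕ) (1 : S) = 1 from rfl, hE1]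
      | single_add i n m _ _ ih =>
        rw [monomial_single_add, hEmul, ih, mul_zero, zero_add]
        have hpow : ∀ n : ℕ, E (X i ^ n) = 0 := by
          intro n
          induction n with
          | zero => rw [pow_zero, hE1]
          | succ n ihn => rw [pow_succ, hEmul, ihn, hEX, mul_zero, mul_zero, add_zero]
        rw [hpow, mul_zero]
    have hg1 : E g = 1 := by
      rw [hE, h1, Finset.sum_eq_zero fun i _ => by rw [hpd, mul_zero], sub_zero]
    rw [← hg1]
    conv_rhs => rw [g.as_sum, map_sum]
    rw [← Finset.sum_coe_sort g.support fun m => E (monomial m (g.coeff m))]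
    refine Finset.sum_congr rfl fun m _ => ?_
    conv_rhs => rw [← mul_one (g.coeff m), ← C_mul_monomial, hEmul, hmon, mul_zero, zero_add, hEC]
  obtain ⟨p, hpchar⟩ := CharP.exists S
  rcases CharP.char_is_prime_or_zero S p with hp | hp
  · haveI := Fact.mk hp
    haveI : CharP L p := charP_of_injective_ringHom (IsFractionRing.injective S L) p
    let P₀ := ULift.{u} (ZMod p)
    letI : Algebra P₀ L :=
      ((ZMod.castHom (dvd_refl p) L).comp (ULift.ringEquiv : P₀ ≃+* ZMod p).toRingHom).toAlgebra
    letI : Algebra P₀ Aq := ((algebraMap L Aq).comp (algebraMap P₀ L)).toAlgebra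
    haveI : CharP P₀ p := charP_of_injective_ringHom
      (f := (ULift.ringEquiv : P₀ ≃+* ZMod p).symm.toRingHom) (RingEquiv.injective _) p
    haveI : Finite P₀ := Finite.of_equiv (ZMod p) Equiv.ulift.symm
    haveI : PerfectRing P₀ p := PerfectRing.ofFiniteOfIsReduced p P₀
    obtain ⟨θ, hθ, -, h1⟩ := ResDerivation.exists_atPrime A q P₀ (fun E _ _ => by
      haveI : CharP E p := charP_of_injective_algebraMap (algebraMap P₀ E).injective p
      exact Groth.Agent.Lib.PBasis.Separable.formallySmooth_of_perfect_charP E p P₀) g hg hg2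
    obtain ⟨D0, hD0⟩ := exists_derivation_S S (hfam p hp inferInstance) κ
      (θ.comp (C : S →+* A).toAddMonoidHom) (fun a b => by
        change θ (C (a * b)) = _
        rw [map_mul, hθ]; rfl)
      (fun j : Fin (Fintype.card g.support) =>
        algebraMap A κ (monomial ((Fintype.equivFin g.support).symm j : σ →₀ ℕ) 1))
      (fun j => g.coeff ((Fintype.equivFin g.support).symm j : σ →₀ ℕ)) (by
        rw [Equiv.sum_comp (Fintype.equivFin g.support).symm
          (fun m : g.support => algebraMap A κ (monomial (m : σ →₀ ℕ) 1) *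
            (θ.comp (C : S →+* A).toAddMonoidHom) (g.coeff m))]
        exact (hsplit θ hθ h1).trans_ne one_ne_zero)
    let h0 := Groth.Agent.H60.DerSection.ofLeibniz (A := S) D0.toLinearMap.toAddMonoidHom
      (fun a b => D0.leibniz a b)
    obtain ⟨h', hh', hC, hX⟩ := Groth.Agent.H60.DerSection.exists_sec_mvPolynomial (τ := σ) h0
      (Groth.Agent.H60.DerSection.ofLeibniz_isSec _ _) 0
    let D : Derivation ℤ A A := Derivation.mk' (AddMonoidHom.toIntLinearMap
      (AddMonoidHom.mk' (fun a => (h' a).snd) fun a b => by simp)) fun a b => hh'.leibniz a b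
    refine hD0 ?_
    rw [Equiv.sum_comp (Fintype.equivFin g.support).symm
      (fun m : g.support => algebraMap A κ (monomial (m : σ →₀ ℕ) 1) *
        algebraMap S κ (D0 (g.coeff m)))]
    have hDC : ∀ s, D (C s) = C (D0 s) := fun s => by
      change (h' (C s)).snd = _
      rw [hC]
      exact congrArg C (Groth.Agent.H60.DerSection.snd_ofLeibniz _ _ s)
    have hDmon : ∀ m : σ →₀ ℕ, D (monomial m (1 : S)) = 0 := by
      intro m
      induction m using Finsupp.induction with
      | zero => exact D.map_one_eq_zero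
      | single_add i n m _ _ ih =>
        rw [monomial_single_add, Derivation.leibniz, Derivation.leibniz_pow, ih,
          show D (X i) = 0 from (hX i).trans (map_zero _)]
        simp
    calc ∑ m : g.support, algebraMap A κ (monomial (m : σ →₀ ℕ) 1) * algebraMap S κ (D0 (g.coeff m))
        = algebraMap A κ (D g) := by
          conv_rhs => rw [g.as_sum, map_sum, map_sum,
            ← Finset.sum_coe_sort g.support fun m => algebraMap A κ (D (monomial m (g.coeff m)))]
          refine Finset.sum_congr rfl fun m _ => ?_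
          conv_rhs => rw [← mul_one (g.coeff m), ← C_mul_monomial, Derivation.leibniz, hDmon, smul_zero,
            zero_add, hDC, smul_eq_mul, map_mul]
          rfl
      _ = 0 := Ideal.algebraMap_residueField_eq_zero.2 (hall D)
  · subst hp
    haveI := CharP.charP_to_charZero S
    haveI : CharZero L := charZero_of_injective_ringHom (IsFractionRing.injective S L)
    obtain ⟨θ, hθ, hk, h1⟩ := ResDerivation.exists_atPrime A q L (fun E _ _ => by
      haveI : CharZero E := charZero_of_injective_algebraMap (algebraMap L E).injective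
      exact Groth.Agent.Lib.PBasis.FieldSmooth.tfae_charZero.1) g hg hg2
    refine one_ne_zero (α := κ) ?_
    rw [← hsplit θ hθ h1]
    exact Finset.sum_eq_zero fun m _ => by rw [hk _ _ (hCL _), mul_zero]

end Groth.Agent.Lib.GRing.Detect
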