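import Groth.Agent.Lib.GRing.Component
import Groth.Agent.Lib.GRing.Extend
import Groth.Agent.Lib.EGA75.Loci
import Groth.Agent.Lib.Cohen.DedekindGRing
import Groth.Agent.Lib.Cohen.GenRegInsep
import Groth.Agent.Lib.Regular.Completion
import Groth.Agent.Lib.Regular.Serre

/-!
# Formal fibres of regular domains with enough derivations
-/

set_option autoImplicit false
set_option linter.style.haveILetI false

universe u

open IsLocalRing Polynomial
open scoped TensorProduct nonZeroDivisors

namespace Groth.Agent.Lib.GRing.Engine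

/-- Finite extensions have derivations detecting elements which are no `p`-th powers. -/
def DerivCond (p : ℕ) (S : Type u) [CommRing S] : Prop :=
  ∀ (A : Type u) [CommRing A] [IsDomain A] [Algebra S A] [Module.Finite S A] [FaithfulSMul S A]
    (M : Type u) [Field M] [Algebra A M] [IsFractionRing A M] (f : A),
    (∀ z : M, z ^ p ≠ algebraMap A M f) → ∃ D : Derivation ℤ A A, D f ≠ 0

theorem base (S : Type u) [CommRing S] [IsDomain S] [IsRegularRing S] (P : Ideal S) [P.IsPrime]
    (L : Type u) [Field L] [Algebra S L] [IsFractionRing S L] :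
    IsRegularRing (L ⊗[S] EGA4.Cpl (Localization.AtPrime P)) := by
  let A := Localization.AtPrime P
  haveI : IsRegularLocalRing A := IsRegularRing.isRegularLocalRing_localization P
  haveI : IsRegularLocalRing (EGA4.Cpl A) :=
    (Groth.Agent.Lib.Regular.Completion.isRegularLocalRing_iff (maximalIdeal A)
      (maximalIdeal.isMaximal A).ne_top).1 ‹_›
  haveI : IsRegularRing (EGA4.Cpl A) := isRegularRing_iff.2 fun q _ =>
    Groth.Agent.Lib.Regular.Serre.isRegularLocalRing_localization q
  haveI : IsRegularRing (EGA4.Cpl A ⊗[S] S) :=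
    IsRegularRing.of_ringEquiv (Algebra.TensorProduct.rid S S (EGA4.Cpl A)).symm.toRingEquiv
  haveI := Component.isRegularRing_tensor_localization (R' := S) (T := S) (K := EGA4.Cpl A) (L := L) S⁰
    ‹_› (AlgEquiv.refl : L ≃ₐ[S] L)
  exact IsRegularRing.of_ringEquiv (Algebra.TensorProduct.comm S (EGA4.Cpl A) L).toRingEquiv

/-- Finite separable extensions preserve regularity. -/
theorem separable (L K X : Type u) [Field L] [Field K] [Algebra L K] [Module.Finite L K]
    [Algebra.IsSeparable L K] [CommRing X] [Algebra L X] (h : IsRegularRing X) :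
    IsRegularRing (K ⊗[L] X) := by
  haveI : IsNoetherianRing (X ⊗[L] K) := IsNoetherianRing.of_finite X _
  haveI : IsRegularRing (X ⊗[L] K) := isRegularRing_iff.2 fun Q _ => by
    let p := Q.comap (algebraMap X (X ⊗[L] K))
    refine EGA75.Loci.atPrime_of_fibre EGA75.Loci.compProp_regular X (X ⊗[L] K) Q p rfl
      (h.isRegularLocalRing_localization p) ?_
    have e := (Algebra.TensorProduct.cancelBaseChange L X p.ResidueField p.ResidueField K).symm
    haveI : IsReduced (p.ResidueField ⊗[L] K) :=
      Groth.Agent.Lib.Cohen.SeparableTensor.isReduced_tensor L p.ResidueField K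
    haveI : IsArtinianRing (p.ResidueField ⊗[L] K) := IsArtinianRing.of_finite p.ResidueField _
    haveI := Groth.Agent.Lib.Cohen.DedekindGRing.isRegularRing_of_artinian_reduced (p.ResidueField ⊗[L] K)
    haveI : IsRegularRing (p.Fiber (X ⊗[L] K)) := IsRegularRing.of_ringEquiv e.toRingEquiv
    exact fun Q' _ => IsRegularRing.isRegularLocalRing_localization Q'
  exact IsRegularRing.of_ringEquiv (Algebra.TensorProduct.comm L X K).toRingEquiv

/-- Some derivation sends `c` to a unit. -/
def HasUnitDeriv (X : Type u) [CommRing X] (c : X) : Prop :=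
  ∃ D : Derivation ℤ X X, IsUnit (D c)

theorem hasUnitDeriv_of_equiv {X Y : Type u} [CommRing X] [CommRing Y] (e : X ≃+* Y) {c : X}
    (h : HasUnitDeriv X c) : HasUnitDeriv Y (e c) := by
  obtain ⟨D, hD⟩ := h
  refine ⟨Derivation.mk' (e.toAddMonoidHom.comp
    (D.toLinearMap.toAddMonoidHom.comp e.symm.toAddMonoidHom)).toIntLinearMap (fun x y => ?_), ?_⟩
  · change e (D (e.symm (x * y))) = x * e (D (e.symm y)) + y * e (D (e.symm x))
    rw [map_mul, Derivation.leibniz, smul_eq_mul, smul_eq_mul, map_add, map_mul, map_mul,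
      e.apply_symm_apply, e.apply_symm_apply]
  · change IsUnit (e (D (e.symm (e c))))
    rw [e.symm_apply_apply]
    exact hD.map e

theorem hasUnitDeriv_localization {X T : Type u} [CommRing X] [CommRing T] [Algebra X T]
    (N : Submonoid X) [IsLocalization N T] (D : Derivation ℤ X X) {c : X}
    (h : IsUnit (algebraMap X T (D c))) : HasUnitDeriv T (algebraMap X T c) := by
  obtain ⟨D', hD'⟩ := Extend.exists_localization (T := T) N D
  exact ⟨D', by rwa [hD']⟩

/-- A derivation of a finite domain extends to its formal fibre. -/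
theorem exists_derivation_tensor (S : Type u) [CommRing S] [IsDomain S] [IsNoetherianRing S]
    (P : Ideal S) [P.IsPrime] (A' : Type u) [CommRing A'] [IsDomain A'] [Algebra S A']
    [Module.Finite S A'] [FaithfulSMul S A'] (M : Type u) [Field M] [Algebra A' M] [IsFractionRing A' M]
    [Algebra S M] [IsScalarTower S A' M] (D : Derivation ℤ A' A') :
    ∀ a : A', D a ≠ 0 →
      HasUnitDeriv (M ⊗[S] EGA4.Cpl (Localization.AtPrime P)) (algebraMap A' M a ⊗ₜ[S] 1) := by
  let A := Localization.AtPrime P
  let N := Algebra.algebraMapSubmonoid A' P.primeCompl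
  let B := Localization N
  have hN : N ≤ A'⁰ := by
    rintro _ ⟨s, hs, rfl⟩
    refine mem_nonZeroDivisors_of_ne_zero fun h0 => hs ?_
    rw [(map_eq_zero_iff _ (FaithfulSMul.algebraMap_injective S A')).1 h0]
    exact P.zero_mem
  haveI : IsDomain B := IsLocalization.isDomain_localization hN
  haveI : IsNoetherianRing A := IsLocalization.isNoetherianRing P.primeCompl A inferInstance
  letI : Algebra A B :=
    (IsLocalization.map B (algebraMap S A') (show P.primeCompl ≤ N.comap (algebraMap S A') from
      fun s hs => ⟨s, hs, rfl⟩)).toAlgebra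
  haveI : IsScalarTower S A B := .of_algebraMap_eq fun s => by
    rw [RingHom.algebraMap_toAlgebra, IsLocalization.map_eq, ← IsScalarTower.algebraMap_apply]
  haveI : Module.Finite A B := Module.Finite.of_isLocalization S A' (Rₚ := A) (Sₚ := B) P.primeCompl
  letI : Algebra B M := (IsLocalization.lift (M := N) (g := algebraMap A' M) fun s =>
    IsLocalization.map_units M (⟨_, hN s.2⟩ : A'⁰)).toAlgebra
  haveI : IsScalarTower A' B M := .of_algebraMap_eq fun a => by
    rw [RingHom.algebraMap_toAlgebra, IsLocalization.lift_eq]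
  haveI : IsFractionRing B M := IsFractionRing.isFractionRing_of_isDomain_of_isLocalization N B M
  letI : Algebra A M := ((algebraMap B M).comp (algebraMap A B)).toAlgebra
  haveI : IsScalarTower A B M := .of_algebraMap_eq' rfl
  haveI : IsScalarTower S A M := .of_algebraMap_eq fun s => by
    rw [IsScalarTower.algebraMap_apply A B M, ← IsScalarTower.algebraMap_apply S A B,
      IsScalarTower.algebraMap_apply S A' B, ← IsScalarTower.algebraMap_apply A' B M,
      ← IsScalarTower.algebraMap_apply]
  obtain ⟨D1, hD1⟩ := Extend.exists_localization (T := B) N D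
  let J := (maximalIdeal A).map (algebraMap A B)
  let Bh := AdicCompletion J B
  obtain ⟨D2, hD2⟩ := Extend.exists_completion J D1
  haveI : IsLocalization (Algebra.algebraMapSubmonoid Bh B⁰) (Bh ⊗[B] M) := IsLocalization.tensor _ _
  haveI : TensorProduct.CompatibleSMul S A M (EGA4.Cpl A) :=
    (IsLocalization.tensorProduct_compatibleSMul P.primeCompl A M (EGA4.Cpl A))
  let e : Bh ⊗[B] M ≃+* M ⊗[S] EGA4.Cpl A :=
    (Algebra.TensorProduct.comm B Bh M).toRingEquiv.trans
      ((Algebra.TensorProduct.congr (AlgEquiv.refl : M ≃ₐ[B] M)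
        (Excellent.CompletionFinite.completionEquiv (maximalIdeal A) B).symm).toRingEquiv.trans
        ((Algebra.TensorProduct.cancelBaseChange A B M M (EGA4.Cpl A)).toRingEquiv.trans
          (Algebra.TensorProduct.equivOfCompatibleSMul S A A M (EGA4.Cpl A)).toRingEquiv))
  have he : ∀ b : B, e ((algebraMap B Bh b) ⊗ₜ[B] (1 : M)) = algebraMap B M b ⊗ₜ[S] 1 := fun b => by
    have h1 : (algebraMap B Bh b) ⊗ₜ[B] (1 : M) = (1 : Bh) ⊗ₜ[B] algebraMap B M b := by
      rw [Algebra.algebraMap_eq_smul_one, Algebra.algebraMap_eq_smul_one, TensorProduct.smul_tmul]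
    rw [h1]
    simp [e, Algebra.TensorProduct.one_def]
    rfl
  intro a ha
  rw [IsScalarTower.algebraMap_apply A' B M, ← he]
  have h2 : D2 (algebraMap B Bh (algebraMap A' B a)) = algebraMap B Bh (algebraMap A' B (D a)) :=
    (hD2 _).trans (congrArg _ (hD1 a))
  have hu : IsUnit ((algebraMap B Bh (algebraMap A' B (D a))) ⊗ₜ[B] (1 : M)) := by
    rw [Algebra.algebraMap_eq_smul_one, TensorProduct.smul_tmul, ← Algebra.algebraMap_eq_smul_one,
      ← IsScalarTower.algebraMap_apply]
    exact (IsUnit.mk0 _ ((map_ne_zero_iff _ (IsFractionRing.injective A' M)).2 ha)).map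
      (Algebra.TensorProduct.includeRight : M →ₐ[B] Bh ⊗[B] M)
  refine hasUnitDeriv_of_equiv e (hasUnitDeriv_localization (T := Bh ⊗[B] M)
    (c := algebraMap B Bh (algebraMap A' B a)) (Algebra.algebraMapSubmonoid Bh B⁰) D2 ?_)
  exact h2 ▸ hu

/-- Base change of a ring obtained by adjoining a root. -/
theorem adjoinRoot_tensor (M X : Type u) [CommRing M] [CommRing X] [Algebra M X] (g : M[X]) :
    Nonempty (AdjoinRoot (g.map (algebraMap M X)) ≃ₐ[X] X ⊗[M] AdjoinRoot g) := by
  let gX := g.map (algebraMap M X)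
  have h1 : gX.eval₂ (Algebra.ofId X (X ⊗[M] AdjoinRoot g)) ((1 : X) ⊗ₜ[M] AdjoinRoot.root g) = 0 := by
    have : (Algebra.TensorProduct.includeRight : AdjoinRoot g →ₐ[M] X ⊗[M] AdjoinRoot g)
        (Polynomial.aeval (AdjoinRoot.root g) g) = 0 := by
      rw [AdjoinRoot.aeval_eq, AdjoinRoot.mk_self, map_zero]
    rw [← Polynomial.aeval_algHom_apply, ← Polynomial.aeval_map_algebraMap X] at this
    exact this
  let φ := AdjoinRoot.liftAlgHom gX (Algebra.ofId X _) _ h1
  have h2 : g.eval₂ (Algebra.ofId M (AdjoinRoot gX) : M →+* AdjoinRoot gX) (AdjoinRoot.root gX) = 0 := by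
    have : Polynomial.aeval (AdjoinRoot.root gX) gX = 0 := by
      rw [AdjoinRoot.aeval_eq, AdjoinRoot.mk_self]
    rw [Polynomial.aeval_map_algebraMap] at this
    exact this
  let ψ : X ⊗[M] AdjoinRoot g →ₐ[X] AdjoinRoot gX :=
    Algebra.TensorProduct.lift (Algebra.ofId X _)
      (AdjoinRoot.liftAlgHom g (Algebra.ofId M _) _ h2) fun _ _ => Commute.all _ _
  refine ⟨AlgEquiv.ofAlgHom φ ψ ?_ ?_⟩
  · refine Algebra.TensorProduct.ext (by ext) ?_
    refine AdjoinRoot.algHom_ext ?_
    simp [φ, ψ]
  · refine AdjoinRoot.algHom_ext ?_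
    change ψ (φ (AdjoinRoot.root gX)) = AdjoinRoot.root gX
    rw [show φ (AdjoinRoot.root gX) = (1 : X) ⊗ₜ[M] AdjoinRoot.root g from
      AdjoinRoot.liftAlgHom_root ..]
    simp [ψ]

/-- Adjoining a `p`-th root of an element moved by a derivation preserves regularity. -/
theorem step (M X : Type u) [Field M] [CommRing X] [Algebra M X] (hX : IsRegularRing X) {p : ℕ}
    [Fact p.Prime] [CharP M p] (c : M) (hc : ∀ z : M, z ^ p ≠ c)
    (hD : HasUnitDeriv X (algebraMap M X c))
    (K : Type u) [Field K] [Algebra M K] (x : K) (hx : x ^ p = algebraMap M K c)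
    (hgen : Algebra.adjoin M {x} = ⊤) : IsRegularRing (K ⊗[M] X) := by
  obtain ⟨D, hD⟩ := hD
  have hp0 : p ≠ 0 := (Fact.out : p.Prime).ne_zero
  let g : M[X] := Polynomial.X ^ p - C c
  haveI : Fact (Irreducible g) := ⟨X_pow_sub_C_irreducible_of_prime (Fact.out : p.Prime) hc⟩
  let φ : AdjoinRoot g →ₐ[M] K := AdjoinRoot.liftAlgHom g (Algebra.ofId M K) x
    (by simp [g, hx])
  have hφ : Function.Bijective φ := by
    refine ⟨φ.toRingHom.injective, fun z => ?_⟩
    have hle : Algebra.adjoin M {x} ≤ φ.range := Algebra.adjoin_le (by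
      rintro _ rfl
      exact ⟨AdjoinRoot.root g, by simp [φ]⟩)
    exact hle (hgen ▸ Algebra.mem_top)
  let gX := g.map (algebraMap M X)
  obtain ⟨e⟩ := adjoinRoot_tensor M X g
  haveI : IsRegularRing (AdjoinRoot gX) := by
    have hmon : gX.Monic := (monic_X_pow_sub_C c hp0).map _
    haveI : Module.Finite X (AdjoinRoot gX) := hmon.finite_adjoinRoot
    haveI : IsNoetherianRing (AdjoinRoot gX) := IsNoetherianRing.of_finite X _
    refine isRegularRing_iff.2 fun Q _ => ?_
    refine Groth.Agent.Lib.Cohen.GenRegInsep.mem_regLocus_adjoinRoot gX D.mapCoeffs 1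
      (fun q _ => hX.isRegularLocalRing_localization q.asIdeal) ⟨Q, inferInstance⟩
      (by rw [map_one]; exact fun h => Ideal.IsPrime.ne_top inferInstance ((Ideal.eq_top_iff_one _).2 h)) ?_
    have : PolynomialModule.equivPolynomialSelf (D.mapCoeffs gX) = C (-D (algebraMap M X c)) := by
      ext n
      change D (gX.coeff n) = _
      rcases eq_or_ne n 0 with rfl | hn
      · simp [gX, g, hp0.symm, coeff_X_pow]
      · simp [gX, g, hn, coeff_C, coeff_X_pow, apply_ite D]
    rw [this, AdjoinRoot.mk_C, map_neg, neg_mem_iff]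
    exact fun h => Ideal.IsPrime.ne_top inferInstance
      (Ideal.eq_top_of_isUnit_mem _ h (hD.map (AdjoinRoot.of gX)))
  exact IsRegularRing.of_ringEquiv
    ((e.toRingEquiv.trans (Algebra.TensorProduct.congr (AlgEquiv.refl : X ≃ₐ[M] X)
      (AlgEquiv.ofBijective φ hφ)).toRingEquiv).trans (Algebra.TensorProduct.comm M X K).toRingEquiv)

/-- The formal fibres of a regular domain with enough derivations are geometrically regular at
finite extensions of its fraction field. -/
theorem good (S : Type u) [CommRing S] [IsDomain S] [IsRegularRing S]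
    (hD : ∀ p : ℕ, p.Prime → CharP S p → DerivCond p S) (P : Ideal S) [P.IsPrime]
    (A : Type u) [CommRing A] [IsDomain A] [Algebra S A] [Module.Finite S A] [FaithfulSMul S A]
    (K : Type u) [Field K] [Algebra A K] [IsFractionRing A K] [Algebra S K] [IsScalarTower S A K] :
    IsRegularRing (K ⊗[S] EGA4.Cpl (Localization.AtPrime P)) := by
  classical
  let L := FractionRing S
  let C := EGA4.Cpl (Localization.AtPrime P)
  suffices key : ∀ (n : ℕ) (A : Type u) [CommRing A] [IsDomain A] [Algebra S A] [Module.Finite S A]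
      [FaithfulSMul S A] (K : Type u) [Field K] [Algebra A K] [IsFractionRing A K] [Algebra L K]
      [Algebra S K] [IsScalarTower S L K] [IsScalarTower S A K],
      Module.finrank L K = n → IsRegularRing (K ⊗[S] C) by
    haveI : FaithfulSMul S K := (faithfulSMul_iff_algebraMap_injective _ _).2 <| by
      rw [IsScalarTower.algebraMap_eq S A K]
      exact (IsFractionRing.injective A _).comp (FaithfulSMul.algebraMap_injective S A)
    letI : Algebra L K := FractionRing.liftAlgebra S K
    exact key _ A K rfl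
  intro n
  induction n using Nat.strong_induction_on with
  | h n ih =>
  intro A _ _ _ _ _ K _ _ _ _ _ _ _ hn
  haveI : Module.Finite L K := Module.Finite.of_isLocalization S A (Rₚ := L) (Sₚ := K) S⁰
  by_cases hsep : Algebra.IsSeparable L K
  · haveI : IsRegularRing (K ⊗[L] (L ⊗[S] C)) := separable L K _ (base S P L)
    exact IsRegularRing.of_ringEquiv (Algebra.TensorProduct.cancelBaseChange S L K K C).toRingEquiv
  obtain ⟨p, hpchar⟩ := CharP.exists L
  obtain hp | rfl := CharP.char_is_prime_or_zero L p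
  rotate_left
  · haveI := CharP.charP_to_charZero L
    exact (hsep inferInstance).elim
  haveI := Fact.mk hp
  haveI : CharP S p := (RingHom.charP_iff _ (IsFractionRing.injective S L) p).2 hpchar
  haveI : ExpChar L p := ExpChar.prime Fact.out
  let Ls := separableClosure L K
  have hLs : Ls ≠ ⊤ := fun h => hsep ((separableClosure.eq_top_iff L K).1 h)
  obtain ⟨M, ⟨hLM, hMtop⟩, hMmax⟩ : ∃ M : IntermediateField L K, (Ls ≤ M ∧ M ≠ ⊤) ∧
      ∀ M' : IntermediateField L K, (Ls ≤ M' ∧ M' ≠ ⊤) → M ≤ M' → M' = M := by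
    let s : Set ℕ := (fun M' : IntermediateField L K => Module.finrank L M') '' {M' | Ls ≤ M' ∧ M' ≠ ⊤}
    have hb : BddAbove s := ⟨Module.finrank L K, by
      rintro _ ⟨M', -, rfl⟩
      exact Submodule.finrank_le M'.toSubmodule⟩
    obtain ⟨M, hM, hMs⟩ := Nat.sSup_mem (s := s) ⟨_, Ls, ⟨le_rfl, hLs⟩, rfl⟩ hb
    refine ⟨M, hM, fun M' hM' hle => (IntermediateField.eq_of_le_of_finrank_le hle ?_).symm⟩
    exact (le_csSup hb ⟨M', hM', rfl⟩).trans_eq hMs.symm
  obtain ⟨a, haM, hap⟩ : ∃ a : K, a ∉ M ∧ a ^ p ∈ M := by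
    haveI : IsPurelyInseparable Ls K := separableClosure.isPurelyInseparable L K
    obtain ⟨z, hz⟩ : ∃ z : K, z ∉ M := by
      by_contra! h
      exact hMtop (top_le_iff.1 fun z _ => h z)
    haveI : ExpChar Ls p := expChar_of_injective_ringHom (algebraMap L Ls).injective p
    obtain ⟨e, y, hy⟩ := IsPurelyInseparable.pow_mem Ls p z
    have hex : ∃ e : ℕ, z ^ p ^ e ∈ M := ⟨e, hy ▸ hLM y.2⟩
    have h0 : Nat.find hex ≠ 0 := fun h => hz (by simpa [h] using Nat.find_spec hex)
    refine ⟨z ^ p ^ (Nat.find hex - 1), Nat.find_min hex (by omega), ?_⟩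
    rw [← pow_mul, ← pow_succ, Nat.sub_add_cancel (Nat.pos_of_ne_zero h0)]
    exact Nat.find_spec hex
  obtain ⟨A', hA', hA'frac⟩ := Groth.Agent.Lib.Cohen.NagataGlobal.exists_finite_subalgebra (A := S) L M
  haveI := hA'
  haveI := hA'frac
  haveI : FaithfulSMul S M := (faithfulSMul_iff_algebraMap_injective _ _).2 <| by
    rw [IsScalarTower.algebraMap_eq S L M]
    exact (algebraMap L M).injective.comp (IsFractionRing.injective S L)
  haveI : FaithfulSMul S A' := (faithfulSMul_iff_algebraMap_injective _ _).2 fun x y hxy =>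
    FaithfulSMul.algebraMap_injective S M (congrArg Subtype.val hxy)
  have hlt : Module.finrank L M < n := by
    rw [← hn]
    exact Submodule.finrank_lt (s := M.toSubmodule) fun h => hMtop (top_le_iff.1 fun z _ =>
      show z ∈ M.toSubmodule from h ▸ Submodule.mem_top)
  have hM : IsRegularRing (M ⊗[S] C) := ih _ hlt A' M rfl
  obtain ⟨u, s, hs, hus⟩ := IsFractionRing.div_surjective A' (⟨a ^ p, hap⟩ : M)
  let α : M := algebraMap A' M s
  have hα : α ≠ 0 := (map_ne_zero_iff _ (IsFractionRing.injective A' M)).2 (nonZeroDivisors.ne_zero hs)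
  let f : A' := u * s ^ (p - 1)
  let b0 : K := a * (α : K)
  have hfa : b0 ^ p = algebraMap M K (algebraMap A' M f) := by
    have h1 : algebraMap A' M f = (⟨a ^ p, hap⟩ : M) * α ^ p := by
      rw [← hus, div_mul_eq_mul_div, eq_div_iff hα, map_mul, map_pow, mul_assoc]
      congr 1
      rw [← pow_succ, Nat.sub_add_cancel (Fact.out : p.Prime).pos]
    rw [h1, mul_pow]
    rfl
  have hb0 : b0 ∉ M := fun h => haM <| by
    have : a = b0 / (α : K) := by
      rw [mul_div_cancel_right₀]
      exact fun h0 => hα (Subtype.ext h0)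
    rw [this]; exact M.div_mem h α.2
  have hgen : Algebra.adjoin M {b0} = ⊤ := by
    have hint : IsIntegral M b0 := Algebra.IsIntegral.isIntegral b0
    rw [← IntermediateField.adjoin_simple_toSubalgebra_of_isAlgebraic hint.isAlgebraic]
    have htop : (IntermediateField.adjoin M {b0}).restrictScalars L = ⊤ := by
      by_contra hne
      have hle : M ≤ (IntermediateField.adjoin M {b0}).restrictScalars L := fun x hx =>
        IntermediateField.algebraMap_mem _ (⟨x, hx⟩ : M)
      have := hMmax _ ⟨hLM.trans hle, hne⟩ hle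
      refine hb0 ?_
      rw [← this]
      exact IntermediateField.subset_adjoin M {b0} rfl
    rw [IntermediateField.restrictScalars_eq_top_iff.1 htop]
    rfl
  haveI : CharP K p := charP_of_injective_ringHom (algebraMap L K).injective p
  haveI : ExpChar K p := ExpChar.prime Fact.out
  haveI : CharP M p := charP_of_injective_ringHom (algebraMap L M).injective p
  have hpow : ∀ z : M, z ^ p ≠ algebraMap A' M f := by
    intro z hz
    refine hb0 ?_
    have hz' : (z : K) ^ p = b0 ^ p := by
      rw [hfa]
      exact congrArg (fun m : M => (m : K)) hz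
    rw [← frobenius_inj K p hz']
    exact z.2
  obtain ⟨D, hDf⟩ := hD p hp inferInstance A' M f hpow
  have hu : HasUnitDeriv (M ⊗[S] C) (algebraMap M (M ⊗[S] C) (algebraMap A' M f)) :=
    exists_derivation_tensor S P A' M D f hDf
  haveI : IsScalarTower S M K := IsScalarTower.of_algebraMap_eq fun r => by
    rw [IsScalarTower.algebraMap_apply S L M r, IsScalarTower.algebraMap_apply S L K r]
    rfl
  haveI : IsRegularRing (K ⊗[M] (M ⊗[S] C)) := step M (M ⊗[S] C) hM _ hpow hu K b0 hfa hgen
  exact IsRegularRing.of_ringEquiv (Algebra.TensorProduct.cancelBaseChange S M K K C).toRingEquiv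

end Groth.Agent.Lib.GRing.Engine
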