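import Groth.Agent.Lib.GRing.Extend
import Groth.Agent.Lib.Regular.Indep
import Groth.Agent.Lib.Regular.Serre
import Groth.Agent.Lib.Regular.Completion
import Groth.Agent.Lib.EGA75.Comp
import Mathlib.RingTheory.LocalRing.ResidueField.Ideal

/-!
# Jacobian criterion for fibres along maps carrying derivations
-/

set_option autoImplicit false
set_option linter.style.haveILetI false

universe u

open IsLocalRing
open scoped TensorProduct

namespace Groth.Agent.Lib.GRing.Jacobian

/-- The derivations of `A` detect the cotangent space at `q`. -/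
def Detects (A : Type u) [CommRing A] (q : Ideal A) : Prop :=
  ∀ g ∈ q, (∀ s ∉ q, s * g ∉ q ^ 2) → ∃ D : Derivation ℤ A A, D g ∉ q

/-- A minimal generating family of a prime near that prime. -/
theorem exists_gens (A : Type u) [CommRing A] [IsNoetherianRing A] (q : Ideal A) [q.IsPrime] :
    ∃ (r : ℕ) (g : Fin r → A), (∀ i, g i ∈ q) ∧
      (Ideal.span (Set.range g)).map (algebraMap A (Localization.AtPrime q)) =
        maximalIdeal (Localization.AtPrime q) ∧
      ∀ a : Fin r → A, (∃ s ∉ q, s * ∑ i, a i * g i ∈ q ^ 2) → ∀ i, a i ∈ q := by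
  classical
  let L := Localization.AtPrime q
  haveI : IsNoetherianRing L := IsLocalization.isNoetherianRing q.primeCompl L inferInstance
  have hex : ∃ r, ∃ g : Fin r → A, (∀ i, g i ∈ q) ∧
      (Ideal.span (Set.range g)).map (algebraMap A L) = maximalIdeal L := by
    obtain ⟨r, g, hg⟩ := Submodule.fg_iff_exists_fin_generating_family.1 (IsNoetherian.noetherian q)
    refine ⟨r, g, fun i => hg.le (Submodule.subset_span ⟨i, rfl⟩), ?_⟩
    rw [show Ideal.span (Set.range g) = q from hg]
    exact Localization.AtPrime.map_eq_maximalIdeal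
  obtain ⟨g, hgq, hgen⟩ := Nat.find_spec hex
  refine ⟨_, g, hgq, hgen, fun a ⟨s, hs, hsa⟩ l => ?_⟩
  by_contra hl
  have hmin := fun r h => Nat.find_min hex (m := r) h
  obtain ⟨m, hm⟩ : ∃ m, Nat.find hex = m + 1 := ⟨Nat.find hex - 1, by
    have := l.pos
    omega⟩
  refine hmin m (by omega) ?_
  let e : Fin (m + 1) → Fin (Nat.find hex) := Fin.cast hm.symm
  let l' : Fin (m + 1) := Fin.cast hm l
  let g' : Fin m → A := fun j => g (e (l'.succAbove j))
  refine ⟨g', fun j => hgq _, ?_⟩
  let N := (Ideal.span (Set.range g')).map (algebraMap A L)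
  have hle : N ≤ maximalIdeal L := by
    rw [← hgen]
    exact Ideal.map_mono (Ideal.span_mono (Set.range_comp_subset_range (fun j => e (l'.succAbove j)) g))
  refine le_antisymm hle ?_
  have hgl : algebraMap A L (g l) ∈ N ⊔ maximalIdeal L ^ 2 := by
    have hu : IsUnit (algebraMap A L (s * a l)) :=
      IsLocalization.map_units L (⟨_, q.primeCompl.mul_mem hs hl⟩ : q.primeCompl)
    rw [← Ideal.unit_mul_mem_iff_mem _ hu, ← map_mul]
    have hsplit : s * a l * g l = s * (∑ i, a i * g i) - s * ∑ i ∈ Finset.univ.erase l, a i * g i := by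
      rw [← Finset.add_sum_erase Finset.univ _ (Finset.mem_univ l)]; ring
    rw [hsplit, map_sub]
    refine Ideal.sub_mem _ (Ideal.mem_sup_right ?_) (Ideal.mem_sup_left ?_)
    · exact (le_of_eq (by rw [Ideal.map_pow, Localization.AtPrime.map_eq_maximalIdeal]) :
        (q ^ 2).map (algebraMap A L) ≤ maximalIdeal L ^ 2) (Ideal.mem_map_of_mem _ hsa)
    · refine Ideal.mem_map_of_mem _ (Ideal.mul_mem_left _ _ (Ideal.sum_mem _ fun i hi => ?_))
      refine Ideal.mul_mem_left _ _ (Ideal.subset_span ?_)
      have hne : Fin.cast hm i ≠ l' := fun h => Finset.ne_of_mem_erase hi (Fin.cast_injective hm h)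
      obtain ⟨j, hj⟩ := Fin.exists_succAbove_eq hne
      exact ⟨j, by simp [g', e, hj]⟩
  have hsup : maximalIdeal L ≤ N ⊔ maximalIdeal L • maximalIdeal L := by
    conv_lhs => rw [← hgen, Ideal.map_span]
    rw [Ideal.span_le]
    rintro _ ⟨_, ⟨i, rfl⟩, rfl⟩
    rw [smul_eq_mul, ← pow_two]
    by_cases hi : i = l
    · exact hi ▸ hgl
    · refine Ideal.mem_sup_left (Ideal.mem_map_of_mem _ (Ideal.subset_span ?_))
      have hne : Fin.cast hm i ≠ l' := fun h => hi (Fin.cast_injective hm h)
      obtain ⟨j, hj⟩ := Fin.exists_succAbove_eq hne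
      exact ⟨j, by simp [g', e, hj]⟩
  exact Submodule.le_of_le_smul_of_le_jacobson_bot (IsNoetherian.noetherian _)
    (IsLocalRing.maximalIdeal_le_jacobson _) hsup

/-- Derivations lifted to a regular local ring over `q` force a regular fibre. -/
theorem regular_quotient (A : Type u) [CommRing A] [IsNoetherianRing A] (q : Ideal A) [q.IsPrime]
    (hq : Detects A q) (U : Type u) [CommRing U] [IsRegularLocalRing U] [Algebra A U]
    (hU : (maximalIdeal U).comap (algebraMap A U) = q)
    (hext : ∀ D : Derivation ℤ A A, ∃ D' : Derivation ℤ U U,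
      ∀ a, D' (algebraMap A U a) = algebraMap A U (D a)) :
    IsRegularLocalRing (U ⧸ q.map (algebraMap A U)) := by
  classical
  obtain ⟨r, g, hgq, hgen, hind⟩ := exists_gens A q
  let κ := q.ResidueField
  let φ : κ →+* ResidueField U := Ideal.ResidueField.lift q ((residue U).comp (algebraMap A U))
    (fun x hx => (residue_eq_zero_iff _).2 (hU.ge hx))
    (fun x hx => Ne.isUnit fun h => hx (hU.le ((residue_eq_zero_iff _).1 h)))
  have hφ : ∀ a, φ (algebraMap A κ a) = residue U (algebraMap A U a) := fun a =>
    Ideal.ResidueField.lift_algebraMap (I := q) _ _ _ a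
  let vec : Derivation ℤ A A → (Fin r → κ) := fun D i => algebraMap A κ (D (g i))
  have hspan : Submodule.span κ (Set.range vec) = ⊤ := by
    by_contra hne
    obtain ⟨f, hf0, hf⟩ := Submodule.exists_le_ker_of_lt_top _ (lt_top_iff_ne_top.2 hne)
    have hfv : ∀ v, f v = ∑ i, v i * f (Pi.single i 1) := fun v => by
      conv_lhs => rw [pi_eq_sum_univ' v, map_sum]
      simp only [map_smul, smul_eq_mul]
    refine hf0 (LinearMap.ext fun v => ?_)
    -- clear the denominators of the functional
    choose c d hcd using fun i => IsFractionRing.div_surjective (A ⧸ q) (f (Pi.single i 1) : κ)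
    choose a ha using fun i => Ideal.Quotient.mk_surjective (c i)
    choose b hb using fun i => Ideal.Quotient.mk_surjective (d i)
    have hb0 : ∀ i, algebraMap A κ (b i) ≠ 0 := fun i => by
      rw [ne_eq, Ideal.algebraMap_residueField_eq_zero, ← Ideal.Quotient.eq_zero_iff_mem, hb]
      exact nonZeroDivisors.ne_zero (hcd i).1
    have hfi : ∀ i, f (Pi.single i 1) * algebraMap A κ (b i) = algebraMap A κ (a i) := fun i => by
      rw [← (hcd i).2, IsScalarTower.algebraMap_apply A (A ⧸ q) κ (b i),
        IsScalarTower.algebraMap_apply A (A ⧸ q) κ (a i), Ideal.Quotient.algebraMap_eq, hb, ha,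
        div_mul_cancel₀]
      exact IsFractionRing.to_map_ne_zero_of_mem_nonZeroDivisors (hcd i).1
    let a' : Fin r → A := fun i => a i * ∏ j ∈ Finset.univ.erase i, b j
    have ha' : ∀ i, algebraMap A κ (a' i) = f (Pi.single i 1) * algebraMap A κ (∏ j, b j) := fun i => by
      rw [← Finset.mul_prod_erase Finset.univ b (Finset.mem_univ i), map_mul, map_mul, ← mul_assoc, hfi]
    let G := ∑ i, a' i * g i
    have hGq : G ∈ q := Ideal.sum_mem _ fun i _ => Ideal.mul_mem_left _ _ (hgq i)
    have hDG : ∀ D : Derivation ℤ A A, D G ∈ q := fun D => by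
      rw [← Ideal.algebraMap_residueField_eq_zero]
      have h1 : algebraMap A κ (D G) = ∑ i, algebraMap A κ (a' i) * vec D i := by
        simp only [G, vec, map_sum]
        refine Finset.sum_congr rfl fun i _ => ?_
        have h0 : algebraMap A κ (g i) = 0 := Ideal.algebraMap_residueField_eq_zero.2 (hgq i)
        rw [Derivation.leibniz, smul_eq_mul, smul_eq_mul, map_add, map_mul (algebraMap A κ) _ (D (g i)),
          map_mul (algebraMap A κ) (g i), h0, zero_mul, add_zero]
      rw [h1]
      have h2 : f (vec D) = 0 := hf (Submodule.subset_span ⟨D, rfl⟩)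
      rw [hfv] at h2
      simp only [ha']
      calc ∑ i, f (Pi.single i 1) * algebraMap A κ (∏ j, b j) * vec D i
          = algebraMap A κ (∏ j, b j) * ∑ i, vec D i * f (Pi.single i 1) := by
            rw [Finset.mul_sum]; exact Finset.sum_congr rfl fun i _ => by ring
        _ = 0 := by rw [h2, mul_zero]
    have hall : ∀ i, a' i ∈ q := by
      refine hind a' ?_
      by_contra hcon
      push Not at hcon
      obtain ⟨D, hD⟩ := hq G hGq hcon
      exact hD (hDG D)
    have hz : ∀ i, f (Pi.single i 1) = 0 := fun i => by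
      have := ha' i
      rw [Ideal.algebraMap_residueField_eq_zero.2 (hall i), eq_comm, mul_eq_zero] at this
      refine this.resolve_right ?_
      rw [map_prod]
      exact Finset.prod_ne_zero_iff.2 fun j _ => hb0 j
    rw [hfv, LinearMap.zero_apply]
    exact Finset.sum_eq_zero fun i _ => by rw [hz, mul_zero]
  have hgm : ∀ i, algebraMap A U (g i) ∈ maximalIdeal U := fun i => hU.ge (hgq i)
  let F : Fin r → maximalIdeal U := fun i => ⟨algebraMap A U (g i), hgm i⟩
  have hli : LinearIndependent (ResidueField U) (fun i => (maximalIdeal U).toCotangent (F i)) := by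
    rw [Fintype.linearIndependent_iff]
    intro v hv
    choose c hc using fun i => IsLocalRing.residue_surjective (v i)
    have hx2 : ∑ i, c i * algebraMap A U (g i) ∈ maximalIdeal U ^ 2 := by
      have hz : (maximalIdeal U).toCotangent (∑ i, c i • F i) = 0 := by
        rw [map_sum, ← hv]
        refine Finset.sum_congr rfl fun i _ => ?_
        rw [map_smul, ← hc i]
        rfl
      simpa [F] using (Ideal.toCotangent_eq_zero _ _).1 hz
    let Φ : (Fin r → κ) →+ ResidueField U :=
      AddMonoidHom.mk' (fun w => ∑ i, v i * φ (w i)) fun w w' => by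
        simp [mul_add, Finset.sum_add_distrib]
    have hΦ : ∀ w, Φ w = 0 := by
      intro w
      have hw : w ∈ Submodule.span κ (Set.range vec) := hspan ▸ Submodule.mem_top
      induction hw using Submodule.span_induction with
      | mem x hx =>
        obtain ⟨D, rfl⟩ := hx
        obtain ⟨D', hD'⟩ := hext D
        have h1 := Extend.map_pow_succ (maximalIdeal U) D' 1 hx2
        rw [pow_one, ← residue_eq_zero_iff, map_sum, map_sum] at h1
        rw [← h1]
        change ∑ i, v i * φ (vec D i) = _
        refine Finset.sum_congr rfl fun i _ => ?_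
        rw [Derivation.leibniz, smul_eq_mul, smul_eq_mul, map_add, map_mul, map_mul,
          (residue_eq_zero_iff _).2 (hgm i), zero_mul, add_zero, hc, hD', ← hφ]
      | zero => exact map_zero Φ
      | add x y _ _ hx hy => rw [map_add, hx, hy, add_zero]
      | smul t x _ hx =>
        calc Φ (t • x) = φ t * Φ x := by
              simp only [Φ, AddMonoidHom.mk'_apply, Finset.mul_sum, Pi.smul_apply, smul_eq_mul, map_mul]
              exact Finset.sum_congr rfl fun i _ => by ring
          _ = 0 := by rw [hx, mul_zero]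
    intro l
    simpa [Φ, Pi.single_apply, apply_ite φ] using hΦ (Pi.single l 1)
  have h := (Groth.Agent.Lib.Regular.Indep.quotient_of_indep F hli).1
  have hmap : q.map (algebraMap A U) = Ideal.span (Set.range fun i => (F i : U)) := by
    let ψ : Localization.AtPrime q →+* U := IsLocalization.lift (M := q.primeCompl)
      (g := algebraMap A U) fun s => by
        by_contra hu
        exact s.2 (hU.le hu)
    have hψ : ψ.comp (algebraMap A (Localization.AtPrime q)) = algebraMap A U :=
      IsLocalization.lift_comp _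
    rw [← hψ, ← Ideal.map_map, Localization.AtPrime.map_eq_maximalIdeal, ← hgen, Ideal.map_map, hψ,
      Ideal.map_span, ← Set.range_comp]
    rfl
  exact IsRegularLocalRing.of_ringEquiv (R := U ⧸ Ideal.span (Set.range fun i => (F i : U)))
    (Ideal.quotEquivOfEq hmap.symm)

/-- The fibre at a detected prime of the completion at a larger prime of a regular ring is regular. -/
theorem formalFibre_regular (A : Type u) [CommRing A] [IsRegularRing A] (q : Ideal A) [q.IsPrime]
    (hq : Detects A q) (P : Ideal A) [P.IsPrime]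
    (K : Type u) [Field K] [Algebra A K] [Algebra (A ⧸ q) K] [IsScalarTower A (A ⧸ q) K]
    [IsFractionRing (A ⧸ q) K] :
    IsRegularRing (K ⊗[A] EGA4.Cpl (Localization.AtPrime P)) := by
  let AP := Localization.AtPrime P
  let C := EGA4.Cpl AP
  haveI : IsRegularLocalRing AP := IsRegularRing.isRegularLocalRing_localization P
  haveI : IsRegularLocalRing C :=
    (Groth.Agent.Lib.Regular.Completion.isRegularLocalRing_iff (maximalIdeal AP)
      (maximalIdeal.isMaximal AP).ne_top).1 ‹_›
  haveI : IsRegularRing C := isRegularRing_iff.2 fun Q _ =>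
    Groth.Agent.Lib.Regular.Serre.isRegularLocalRing_localization Q
  haveI : IsDomain (A ⧸ q) := Ideal.Quotient.isDomain q
  haveI : Algebra.EssFiniteType A K :=
    haveI : Algebra.EssFiniteType (A ⧸ q) K :=
      Algebra.EssFiniteType.of_isLocalization K (nonZeroDivisors (A ⧸ q))
    haveI : Algebra.FiniteType A (A ⧸ q) :=
      Algebra.FiniteType.of_surjective (Algebra.ofId A (A ⧸ q)) Ideal.Quotient.mk_surjective
    Algebra.EssFiniteType.comp A (A ⧸ q) K
  haveI : IsNoetherianRing (K ⊗[A] C) := by
    haveI : IsNoetherianRing (C ⊗[A] K) := Algebra.EssFiniteType.isNoetherianRing C _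
    exact isNoetherianRing_of_ringEquiv (C ⊗[A] K) (Algebra.TensorProduct.comm A C K).toRingEquiv
  let P' : ∀ (R : Type u) [CommRing R], Prop := fun R [CommRing R] => IsRegularLocalRing R
  have hP' : Groth.Agent.Lib.Excellent.FormalFibre.IsoInvariant.{u} P' :=
    fun R S _ _ e h => by
      haveI : IsRegularLocalRing R := h
      exact IsRegularLocalRing.of_ringEquiv e
  refine isRegularRing_iff.2 ((EGA75.Main.fraction_iff hP' A C (A ⧸ q) K).2 fun Q hQ hQ0 => ?_)
  haveI := hQ
  -- the prime of `C` under `Q`
  let e : (C ⧸ q.map (algebraMap A C)) ≃+* (A ⧸ q) ⊗[A] C :=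
    (((Algebra.TensorProduct.quotIdealMapEquivTensorQuot C q).restrictScalars A).trans
      (Algebra.TensorProduct.comm A C (A ⧸ q))).toRingEquiv
  let Qb := Q.comap e.toRingHom
  haveI : Qb.IsPrime := Ideal.IsPrime.comap _
  let QC := Qb.comap (Ideal.Quotient.mk (q.map (algebraMap A C)))
  haveI : QC.IsPrime := Ideal.IsPrime.comap _
  have hcomm : ∀ a : A, e (Ideal.Quotient.mk _ (algebraMap A C a)) =
      algebraMap (A ⧸ q) _ (Ideal.Quotient.mk q a) := fun a => by
    change (((Algebra.TensorProduct.quotIdealMapEquivTensorQuot C q).restrictScalars A).trans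
      (Algebra.TensorProduct.comm A C (A ⧸ q))) (algebraMap A (C ⧸ q.map (algebraMap A C)) a) = _
    rw [AlgEquiv.commutes]
    rfl
  have hQC : QC.comap (algebraMap A C) = q := by
    ext a
    have : a ∈ QC.comap (algebraMap A C) ↔
        Ideal.Quotient.mk q a ∈ Q.comap (algebraMap (A ⧸ q) ((A ⧸ q) ⊗[A] C)) := by
      change e (Ideal.Quotient.mk _ (algebraMap A C a)) ∈ Q ↔
        algebraMap (A ⧸ q) _ (Ideal.Quotient.mk q a) ∈ Q
      rw [hcomm]
    rw [this, hQ0, Ideal.mem_bot, Ideal.Quotient.eq_zero_iff_mem]
  let U := Localization.AtPrime QC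
  haveI : IsRegularLocalRing U := IsRegularRing.isRegularLocalRing_localization QC
  have hUcomap : (maximalIdeal U).comap (algebraMap A U) = q := by
    rw [IsScalarTower.algebraMap_eq A C U, ← Ideal.comap_comap,
      show (maximalIdeal U).comap (algebraMap C U) = QC from IsLocalization.AtPrime.under_maximalIdeal U QC, hQC]
  have hU : IsRegularLocalRing (U ⧸ q.map (algebraMap A U)) :=
    regular_quotient A q hq U hUcomap fun D => by
      obtain ⟨D1, hD1⟩ := Extend.exists_localization (T := AP) P.primeCompl D
      obtain ⟨D2, hD2⟩ := Extend.exists_completion (maximalIdeal AP) D1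
      obtain ⟨D3, hD3⟩ := Extend.exists_localization (T := U) QC.primeCompl D2
      refine ⟨D3, fun a => ?_⟩
      rw [IsScalarTower.algebraMap_apply A C U, IsScalarTower.algebraMap_apply A C U,
        IsScalarTower.algebraMap_apply A AP C, IsScalarTower.algebraMap_apply A AP C, hD3]
      exact congrArg _ ((hD2 _).trans (congrArg _ (hD1 a)))
  let J := q.map (algebraMap A C)
  have hM : Algebra.algebraMapSubmonoid (C ⧸ J) QC.primeCompl = Qb.primeCompl := by
    ext z
    constructor
    · rintro ⟨y, hy, rfl⟩
      exact hy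
    · intro hz
      obtain ⟨y, rfl⟩ := Ideal.Quotient.mk_surjective z
      exact ⟨y, hz, rfl⟩
  haveI : IsLocalization Qb.primeCompl (U ⧸ J.map (algebraMap C U)) := hM ▸ inferInstance
  have hJ : q.map (algebraMap A U) = J.map (algebraMap C U) := by
    rw [Ideal.map_map, ← IsScalarTower.algebraMap_eq]
  exact hP' _ _ (((Ideal.quotEquivOfEq hJ).trans
    (IsLocalization.algEquiv Qb.primeCompl (U ⧸ J.map (algebraMap C U))
      (Localization.AtPrime Qb)).toRingEquiv).trans
    (Localization.localRingEquiv Qb Q e rfl)) hU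

end Groth.Agent.Lib.GRing.Jacobian
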