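import Groth.Agent.S2047
import Groth.Agent.Lib.Excellent.GRingStability
import Groth.Agent.Lib.RefHull.ClosedPoint
import Mathlib.AlgebraicGeometry.Noetherian

/-! G-schemes. -/

set_option autoImplicit false
set_option linter.style.haveILetI false

universe u

open CategoryTheory AlgebraicGeometry

namespace Groth.Agent.Lib.GRing.SchemeG

open Groth.Agent.Lib.Excellent.GRingStability (isRegularHom_cpl_of_ringEquiv)

/-- The completion map of a local ring is regular. -/
abbrev GLocal (R : Type u) [CommRing R] [IsLocalRing R] : Prop :=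
  CAlg.IsRegularHom R (AdicCompletion (IsLocalRing.maximalIdeal R) R)

theorem gLocal_of_localization (R : Type u) [CommRing R] [IsNoetherianRing R] (p q : Ideal R)
    [p.IsPrime] [q.IsPrime] (hpq : p ≤ q) (h : GLocal (Localization.AtPrime q)) :
    GLocal (Localization.AtPrime p) := by
  let A := Localization.AtPrime q
  haveI : IsNoetherianRing A := IsLocalization.isNoetherianRing q.primeCompl A inferInstance
  have hA : CAlg.IsGRing A := by
    refine Groth.Agent.S2047.result.2 fun m _ => ?_
    have hm : m.primeCompl ≤ IsUnit.submonoid A := fun x hx => by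
      have : m = IsLocalRing.maximalIdeal A := IsLocalRing.eq_maximalIdeal inferInstance
      exact of_not_not fun h => hx (this ▸ h)
    exact isRegularHom_cpl_of_ringEquiv A (Localization.AtPrime m)
      (IsLocalization.atUnits A m.primeCompl (S := Localization.AtPrime m) hm).toRingEquiv h
  have hd : Disjoint (q.primeCompl : Set R) (p : Set R) :=
    Set.disjoint_left.2 fun x hx hxp => hx (hpq hxp)
  haveI : (p.map (algebraMap R A)).IsPrime :=
    IsLocalization.isPrime_of_isPrime_disjoint q.primeCompl A p inferInstance hd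
  have hc : (p.map (algebraMap R A)).comap (algebraMap R A) = p :=
    IsLocalization.comap_map_of_isPrime_disjoint q.primeCompl A ‹p.IsPrime› hd
  let P := p.map (algebraMap R A)
  haveI : IsNoetherianRing (Localization.AtPrime P) :=
    IsLocalization.isNoetherianRing P.primeCompl _ inferInstance
  haveI hloc : IsLocalization (P.comap (algebraMap R A)).primeCompl (Localization.AtPrime P) :=
    IsLocalization.isLocalization_isLocalization_atPrime_isLocalization q.primeCompl _ P
  haveI : IsLocalization p.primeCompl (Localization.AtPrime P) := by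
    convert hloc using 2 <;> simp only [P, hc]
  exact isRegularHom_cpl_of_ringEquiv (Localization.AtPrime P) (Localization.AtPrime p)
    (IsLocalization.algEquiv p.primeCompl _ _).toRingEquiv (hA.2 P)

variable {X : Scheme.{u}}

theorem gLocal_stalk_iff {U : X.Opens} (hU : IsAffineOpen U) [IsNoetherianRing Γ(X, U)] {x : X}
    (hx : x ∈ U) : GLocal (X.presheaf.stalk x) ↔
      GLocal (Localization.AtPrime (hU.primeIdealOf ⟨x, hx⟩).asIdeal) := by
  letI : Algebra Γ(X, U) (X.presheaf.stalk x) :=
    TopCat.Presheaf.algebra_section_stalk X.presheaf ⟨x, hx⟩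
  haveI : IsLocalization.AtPrime (X.presheaf.stalk x) (hU.primeIdealOf ⟨x, hx⟩).asIdeal :=
    hU.isLocalization_stalk ⟨x, hx⟩
  let M := (hU.primeIdealOf ⟨x, hx⟩).asIdeal.primeCompl
  haveI : IsNoetherianRing (X.presheaf.stalk x) := IsLocalization.isNoetherianRing M _ inferInstance
  haveI : IsNoetherianRing (Localization.AtPrime (hU.primeIdealOf ⟨x, hx⟩).asIdeal) :=
    IsLocalization.isNoetherianRing M _ inferInstance
  exact ⟨isRegularHom_cpl_of_ringEquiv _ _ (IsLocalization.algEquiv M _ _).toRingEquiv,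
    isRegularHom_cpl_of_ringEquiv _ _ (IsLocalization.algEquiv M _ _).toRingEquiv⟩

theorem isGRing_iff_stalk {U : X.Opens} (hU : IsAffineOpen U) :
    CAlg.IsGRing Γ(X, U) ↔ IsNoetherianRing Γ(X, U) ∧ ∀ x ∈ U, GLocal (X.presheaf.stalk x) := by
  constructor
  · intro h
    haveI := h.1
    exact ⟨h.1, fun x hx => (gLocal_stalk_iff hU hx).2 (h.2 _)⟩
  · rintro ⟨hN, h⟩
    refine ⟨hN, fun p _ => ?_⟩
    obtain ⟨z, hz, hp⟩ := AssPt.Basic.exists_point_of_prime hU p
    have := (gLocal_stalk_iff hU hz).1 (h z hz)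
    subst hp
    exact this

theorem isLocallyNoetherian_of_gScheme
    (h : ∀ x : X, ∃ U : X.Opens, x ∈ U ∧ IsAffineOpen U ∧ CAlg.IsGRing Γ(X, U)) :
    IsLocallyNoetherian X := by
  choose U hxU hU hG using h
  exact isLocallyNoetherian_of_affine_cover (S := fun x => (⟨U x, hU x⟩ : X.affineOpens))
    (top_le_iff.1 fun x _ => TopologicalSpace.Opens.mem_iSup.2 ⟨x, hxU x⟩) fun x => (hG x).1

theorem gLocal_of_gScheme
    (h : ∀ x : X, ∃ U : X.Opens, x ∈ U ∧ IsAffineOpen U ∧ CAlg.IsGRing Γ(X, U)) (x : X) :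
    GLocal (X.presheaf.stalk x) := by
  obtain ⟨U, hx, hU, hG⟩ := h x
  exact ((isGRing_iff_stalk hU).1 hG).2 x hx

theorem isGRing_of_gScheme
    (h : ∀ x : X, ∃ U : X.Opens, x ∈ U ∧ IsAffineOpen U ∧ CAlg.IsGRing Γ(X, U))
    {U : X.Opens} (hU : IsAffineOpen U) : CAlg.IsGRing Γ(X, U) :=
  haveI := isLocallyNoetherian_of_gScheme h
  (isGRing_iff_stalk hU).2
    ⟨IsLocallyNoetherian.component_noetherian ⟨U, hU⟩, fun x _ => gLocal_of_gScheme h x⟩

theorem gScheme_of_closedPoints [IsLocallyNoetherian X]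
    (h : ∀ x : X, IsClosed ({x} : Set X) → GLocal (X.presheaf.stalk x)) (x : X) :
    ∃ U : X.Opens, x ∈ U ∧ IsAffineOpen U ∧ CAlg.IsGRing Γ(X, U) := by
  obtain ⟨U, hU, hxU, -⟩ := exists_isAffineOpen_mem_and_subset (X := X) (x := x) (TopologicalSpace.Opens.mem_top x)
  haveI : IsNoetherianRing Γ(X, U) := IsLocallyNoetherian.component_noetherian ⟨U, hU⟩
  refine ⟨U, hxU, hU, (isGRing_iff_stalk hU).2 ⟨inferInstance, fun y hy => ?_⟩⟩
  obtain ⟨z, hyz, hz⟩ := Groth.Agent.Lib.RefHull.ClosedPoint.exists_closed_specialization y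
  obtain ⟨V, hV, hzV, -⟩ := exists_isAffineOpen_mem_and_subset (X := X) (x := z) (TopologicalSpace.Opens.mem_top z)
  haveI : IsNoetherianRing Γ(X, V) := IsLocallyNoetherian.component_noetherian ⟨V, hV⟩
  have hyV : y ∈ V := hyz.mem_open V.2 hzV
  exact (gLocal_stalk_iff hV hyV).2 (gLocal_of_localization Γ(X, V) _ _
    ((AssPt.Basic.specializes_iff_primeIdealOf hV hzV hyV).1 hyz)
    ((gLocal_stalk_iff hV hzV).1 (h z hz)))

end Groth.Agent.Lib.GRing.SchemeG
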